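import Cfsg.Agent.Omega.NO3S.TwoMid.PartA
import Cfsg.Agent.Omega.NO3S.ML
import Cfsg.Agent.Omega.NO3S.Level.Basic
import Cfsg.Agent.Omega.BTwo.Pair

/-!
# NO-3S, `|V| = 4`: LEMMA FIX (helper77 #19497, 251 #19410, 937 #19454, 734 #19593)

`h : Fr T V z`, `hc` : the points of `V` commute (critical distance `≥ 2`), `Q = C_T(V)`.
`OffQ T V D` : some `A ≤ T`, `A ≰ C(V)` offends on all elementary abelian `A`-invariant `F`, `V ≤ F ≤ C_Q(D)`
(`D = 1`: `J(T) ≰ C(V)`; `D` a level: best offenders on `Ω₁(Z(D))`).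

* `qt_omega` : `Ω₁(Z(Q)) = V` on `ii V`; `ws_le_qt` : `W_x ≤ Q` for `x ∈ V#`;
* `psi_le_V` : `{w ∈ C_{W_x}(D) : [w, Q] ≤ ⟨x⟩} = V`;
* `fix` : `w ∈ C_{W_z}(D)`, `[w, T] ≤ ⟨z⟩` implies `w ∈ V`;
* `nor_eq` : a normal subgroup `N` of `C_G(z)`, `N ≤ W_z`, with `V ≰ N` satisfies `C_N(D) ≤ ⟨z⟩`;
* `cen_kq` : `C_{W_z}(K_z) ∩ C(D) = ⟨z⟩`.
-/

set_option autoImplicit false
set_option linter.unusedSectionVars false
set_option maxHeartbeats 400000

namespace Cfsg.Agent.Omega.NO3S.Pt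

open Subgroup Cfsg Cfsg.Agent.ZN Cfsg.Agent.MinSimple.Geo Cfsg.Agent.Omega.CaseL Cfsg.Agent.Omega.NO3S.TwoOne
open Cfsg.Agent.ZN.Block (conj_mem_of_normalizer conj_mem_of_normalizer' le_normalizer_of_forall
  mem_normalizer_of)

universe u

variable {G : Type u} [Group G]

/-- `Q = C_T(V)` -/
def qt (T V : Subgroup G) : Subgroup G := T ⊓ centralizer (V : Set G)

theorem mem_qt {T V : Subgroup G} {s : G} : s ∈ qt T V ↔ s ∈ T ∧ ∀ v ∈ V, s * v = v * s := by
  unfold qt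
  rw [mem_inf, mem_centralizer_iff]
  exact and_congr_right fun _ => ⟨fun h v hv => (h v hv).symm, fun h v hv => (h v hv).symm⟩

/-- an offender on all `F`, `V ≤ F ≤ C_Q(D)` -/
structure OffQ (T V D : Subgroup G) : Prop where
  D_le : D ≤ qt T V
  D_norm : normalizer (qt T V : Set G) ≤ normalizer (D : Set G)
  ex : ∃ A ≤ T, ¬ A ≤ centralizer (V : Set G) ∧
    ∀ F ≤ qt T V, F ≤ centralizer (D : Set G) → V ≤ F → (∀ x ∈ F, ∀ y ∈ F, x * y = y * x) →
      (∀ x ∈ F, x * x = 1) → (∀ a ∈ A, ∀ x ∈ F, a * x * a⁻¹ ∈ F) → FFThm.OffM F A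

theorem mem_sup_c {A B : Subgroup G} (h : ∀ a ∈ A, ∀ b ∈ B, a * b = b * a) {x : G} (hx : x ∈ A ⊔ B) :
    ∃ u ∈ A, ∃ v ∈ B, u * v = x := by
  let K : Subgroup G :=
    { carrier := {x | ∃ u ∈ A, ∃ v ∈ B, u * v = x}
      one_mem' := ⟨1, A.one_mem, 1, B.one_mem, one_mul 1⟩
      mul_mem' := by
        rintro _ _ ⟨u, hu, v, hv, rfl⟩ ⟨u', hu', v', hv', rfl⟩
        refine ⟨u * u', A.mul_mem hu hu', v * v', B.mul_mem hv hv', ?_⟩
        have h1 := h u' hu' v hv
        calc u * u' * (v * v') = u * (u' * v) * v' := by group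
          _ = u * (v * u') * v' := by rw [h1]
          _ = u * v * (u' * v') := by group
      inv_mem' := by
        rintro _ ⟨u, hu, v, hv, rfl⟩
        refine ⟨u⁻¹, A.inv_mem hu, v⁻¹, B.inv_mem hv, ?_⟩
        have h1 := h u hu v hv
        calc u⁻¹ * v⁻¹ = (v * u)⁻¹ := by group
          _ = (u * v)⁻¹ := by rw [h1] }
  have h1 : A ⊔ B ≤ K := sup_le (fun u hu => ⟨u, hu, 1, B.one_mem, mul_one u⟩)
    (fun v hv => ⟨1, A.one_mem, v, hv, one_mul v⟩)
  exact h1 hx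

theorem card_le_conj [Finite G] {H K : Subgroup G} (g : G) (h : ∀ x ∈ H, g * x * g⁻¹ ∈ K) :
    Nat.card H ≤ Nat.card K := by
  refine Nat.card_le_card_of_injective (fun x : H => (⟨g * x * g⁻¹, h x x.2⟩ : K)) ?_
  intro x y hxy
  have h1 : g * (x : G) * g⁻¹ = g * y * g⁻¹ := congrArg Subtype.val hxy
  exact Subtype.ext (mul_left_cancel (mul_right_cancel h1))

namespace Fr

variable {T V : Subgroup G} {z : G}

section

variable [Finite G] (h : Fr T V z)
include h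

theorem exists_t : ∃ t ∈ T, t ∉ centralizer (V : Set G) := by
  by_contra hcon
  push Not at hcon
  obtain ⟨y, hy, hy1, hyz⟩ := h.ln.exists_y
  rcases h.ln.soc y (h.ln.V_le hy) (h.ln.sq y hy)
    (fun s hs => (mem_centralizer_iff.1 (hcon s hs) y hy).symm) with e | e
  · exact hy1 e
  · exact hyz e

theorem T_z {t : G} (ht : t ∈ T) : t * z = z * t := h.ln.z_comm (h.ln.T_le ht)

theorem move_T {t y : G} (ht : t ∈ T) (ht1 : t ∉ centralizer (V : Set G)) (hy : y ∈ V) (hy1 : y ≠ 1) (hyz : y ≠ z) :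
    t * y * t⁻¹ = z * y := by
  rcases h.ln.conj_cases h.ln.z_mem hy h.ln.z_ne (h.T_z ht) (h.ln.T_norm ht) with e | e
  · exact absurd (h.ln.mem_centralizer_V hy hy1 hyz (h.T_z ht) (comm_of_conj_eq e)) ht1
  · exact e

/-- `|T : Q| = 2` -/
theorem T_mul {s t : G} (hs : s ∈ T) (hs1 : s ∉ centralizer (V : Set G)) (ht : t ∈ T)
    (ht1 : t ∉ centralizer (V : Set G)) : s⁻¹ * t ∈ qt T V := by
  obtain ⟨y, hy, hy1, hyz⟩ := h.ln.exists_y
  have hst : s⁻¹ * t ∈ T := T.mul_mem (T.inv_mem hs) ht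
  refine ⟨hst, h.ln.mem_centralizer_V hy hy1 hyz ?_ ?_⟩
  · exact h.T_z hst
  · have e1 := h.move_T hs hs1 hy hy1 hyz
    have e2 := h.move_T ht ht1 hy hy1 hyz
    refine comm_of_conj_eq ?_
    calc s⁻¹ * t * y * (s⁻¹ * t)⁻¹ = s⁻¹ * (t * y * t⁻¹) * s := by group
      _ = s⁻¹ * (s * y * s⁻¹) * s := by rw [e1, e2]
      _ = y := by group

theorem qt_norm {t s : G} (ht : t ∈ normalizer (V : Set G)) (htT : t ∈ normalizer (T : Set G)) (hs : s ∈ qt T V) :
    t * s * t⁻¹ ∈ qt T V :=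
  ⟨(mem_normalizer_iff.1 htT s).1 hs.1, (mem_normalizer_iff.1 (normalizer_le_normalizer_centralizer V ht) s).1 hs.2⟩

theorem qt_conj {t s : G} (ht : t ∈ T) (hs : s ∈ qt T V) : t * s * t⁻¹ ∈ qt T V :=
  h.qt_norm (h.ln.T_norm ht) (le_normalizer ht) hs

theorem qt_conj' {t s : G} (ht : t ∈ T) (hs : s ∈ qt T V) : t⁻¹ * s * t ∈ qt T V := by
  have := h.qt_conj (inv_mem ht) hs
  rwa [inv_inv] at this

/-- (T6) on `ii V` -/
theorem qt_omega {x : G} (hx : x ∈ ii V) (hc : ∀ s ∈ qt T V, s * x = x * s) : x ∈ V := by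
  obtain ⟨t, ht, ht1⟩ := h.exists_t
  obtain ⟨y, hy, hy1, hyz⟩ := h.ln.exists_y
  have hxz : ∀ u ∈ ii V, u ∈ ws V z := fun u hu => ii_le h.ln.z_mem h.ln.z_ne hu
  have hsoc : ∀ u ∈ ws V z, (∀ s ∈ T, s * u = u * s) → u = 1 ∨ u = z := fun u hu hs =>
    h.ln.soc u (h.ln.ws_le_T hu) (h.sqz u hu) hs
  -- `T` is generated by `Q` and `t`
  have hT : ∀ u ∈ ws V z, (∀ s ∈ qt T V, s * u = u * s) → t * u = u * t → u = 1 ∨ u = z := by
    intro u hu h1 h2
    refine hsoc u hu fun s hs => ?_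
    by_cases hs1 : s ∈ centralizer (V : Set G)
    · exact h1 s ⟨hs, hs1⟩
    · have h3 := h1 _ (h.T_mul ht ht1 hs hs1)
      have e : s = t * (t⁻¹ * s) := by group
      rw [e, mul_assoc, h3, ← mul_assoc, h2, mul_assoc]
  have hii : t * x * t⁻¹ ∈ ii V := by
    intro p hp hp1
    have hp' : t⁻¹ * p * t ∈ V := by
      have := (mem_normalizer_iff''.mp (h.ln.T_norm ht) p).mp hp
      exact this
    have hp1' : t⁻¹ * p * t ≠ 1 := fun e => hp1 (by
      have : p = t * (t⁻¹ * p * t) * t⁻¹ := by group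
      rw [this, e]; group)
    have h1 := conj_mem_ws t (hx _ hp' hp1')
    have e : t * (t⁻¹ * p * t) * t⁻¹ = p := by group
    rwa [e] at h1
  set c := t * x * t⁻¹ * x⁻¹ with hcdef
  have hxT : x ∈ qt T V := ⟨h.ln.ws_le_T (hxz x hx), h.ii_le_centralizer hx⟩
  have hc1 : c ∈ ws V z := mul_mem (hxz _ hii) (inv_mem (hxz _ hx))
  have hcomm : ∀ s ∈ qt T V, s * c = c * s := by
    intro s hs
    have h1 := hc s hs
    have h2 := hc _ (h.qt_conj' ht hs)
    have h3 : s * (t * x * t⁻¹) = t * x * t⁻¹ * s := by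
      calc s * (t * x * t⁻¹) = t * ((t⁻¹ * s * t) * x) * t⁻¹ := by group
        _ = t * (x * (t⁻¹ * s * t)) * t⁻¹ := by rw [h2]
        _ = t * x * t⁻¹ * s := by group
    have h4 : s * x⁻¹ = x⁻¹ * s := by
      calc s * x⁻¹ = x⁻¹ * (x * s) * x⁻¹ := by group
        _ = x⁻¹ * (s * x) * x⁻¹ := by rw [h1]
        _ = x⁻¹ * s := by group
    calc s * (t * x * t⁻¹ * x⁻¹) = s * (t * x * t⁻¹) * x⁻¹ := by group
      _ = t * x * t⁻¹ * (s * x⁻¹) := by rw [h3, mul_assoc]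
      _ = t * x * t⁻¹ * x⁻¹ * s := by rw [h4, ← mul_assoc]
  have hct : t * c = c * t := by
    have htt : t * t ∈ qt T V := by
      have h1 := h.T_mul (inv_mem ht) (fun e => ht1 (by have := inv_mem e; rwa [inv_inv] at this)) ht ht1
      rwa [inv_inv] at h1
    have h1 := hc _ htt
    have h2 : (t * x * t⁻¹) * x⁻¹ = x⁻¹ * (t * x * t⁻¹) := by
      have := hc _ (h.qt_conj ht hxT)
      calc (t * x * t⁻¹) * x⁻¹ = x⁻¹ * (x * (t * x * t⁻¹)) * x⁻¹ := by group
        _ = x⁻¹ * ((t * x * t⁻¹) * x) * x⁻¹ := by rw [this]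
        _ = _ := by group
    have hsq : c * c = 1 := h.sqz c hc1
    have e : t * c * t⁻¹ = c⁻¹ := by
      calc t * c * t⁻¹ = (t * t * x) * (t * t)⁻¹ * (t * x * t⁻¹)⁻¹ := by rw [hcdef]; group
        _ = x * (t * t) * (t * t)⁻¹ * (t * x * t⁻¹)⁻¹ := by rw [h1]
        _ = (t * x * t⁻¹ * x⁻¹)⁻¹ := by group
        _ = c⁻¹ := by rw [hcdef]
    have e2 : c⁻¹ = c := inv_eq_of_mul_eq_one_left hsq
    rw [e2] at e
    exact comm_of_conj_eq e
  rcases hT c hc1 hcomm hct with e | e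
  · -- `c = 1`
    have h1 : t * x = x * t := comm_of_conj_eq (mul_inv_eq_one.1 e)
    rcases hT x (hxz x hx) hc h1 with e' | e'
    · rw [e']; exact one_mem _
    · rw [e']; exact h.ln.z_mem
  · have h1 := h.move_T ht ht1 hy hy1 hyz
    have hyii := h.V_le_ii hy
    have h2 : t * (x * y) = x * y * t := by
      refine comm_of_conj_eq ?_
      have h3 : t * x * t⁻¹ = z * x := by
        have : t * x * t⁻¹ = c * x := by rw [hcdef]; group
        rw [this, e]
      calc t * (x * y) * t⁻¹ = (t * x * t⁻¹) * (t * y * t⁻¹) := by group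
        _ = z * x * (z * y) := by rw [h3, h1]
        _ = z * (x * z) * y := by group
        _ = z * (z * x) * y := by
          rw [h.ab x (hxz x hx) z (h.ln.V_le_ws h.ln.z_mem)]
        _ = (z * z) * (x * y) := by group
        _ = x * y := by rw [h.ln.zz, one_mul]
    rcases hT (x * y) (mul_mem (hxz x hx) (hxz y hyii)) (fun s hs => by
      have h3 := (mem_qt.1 hs).2 y hy
      rw [← mul_assoc, hc s hs, mul_assoc, h3, mul_assoc]) h2 with e' | e'
    · have : x = x * y * y := by rw [mul_assoc, h.ln.sq y hy, mul_one]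
      rw [this, e', one_mul]; exact hy
    · have : x = x * y * y := by rw [mul_assoc, h.ln.sq y hy, mul_one]
      rw [this, e']; exact mul_mem h.ln.z_mem hy

/-- `W_p ≤ Q` -/
theorem ws_le_qt {p : G} (hp : p ∈ V) (hp1 : p ≠ 1) : ws V p ≤ qt T V := by
  refine le_inf ?_ (h.ws_le_centralizer_V hp hp1)
  have h1 : IsPGroup 2 (ws V p) := by
    intro x
    refine ⟨1, Subtype.ext ?_⟩
    have := h.sq hp hp1 x x.2
    simpa [pow_two] using this
  have h2 : ws V p ≤ o2 (centralizer (V : Set G)) :=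
    le_o2 (h.ws_le_centralizer_V hp hp1) h1 (h.cent_norm hp)
  have h3 : o2 (centralizer (V : Set G)) ≤ o2 (normalizer (V : Set G)) :=
    le_o2 ((o2_le _).trans (centralizer_le_normalizer _)) (isPGroup_o2 _)
      ((normalizer_le_normalizer_centralizer V).trans (normalizer_le_normalizer_o2 _))
  exact h2.trans (h3.trans (o2_le_of_sylow h.ln.T_norm h.ln.two h.ln.T_syl'))

/-- `Ψ_p = {w ∈ C_{W_p}(D) : [w, Q] ≤ ⟨p⟩}` -/
def psi (D : Subgroup G) {p : G} (hp : p ∈ V) (hp1 : p ≠ 1) : Subgroup G where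
  carrier := {w | w ∈ ws V p ∧ w ∈ centralizer (D : Set G) ∧ ∀ s ∈ qt T V, s * w * s⁻¹ = w ∨ s * w * s⁻¹ = w * p}
  mul_mem' := by
    rintro a b ⟨ha, ha', ha''⟩ ⟨hb, hb', hb''⟩
    refine ⟨mul_mem ha hb, mul_mem ha' hb', fun s hs => ?_⟩
    have hpb : p * b = b * p := h.comm hp hp1 p (h.V_le hp hp1 hp) b hb
    have e : s * (a * b) * s⁻¹ = (s * a * s⁻¹) * (s * b * s⁻¹) := by group
    rw [e]
    rcases ha'' s hs with e1 | e1 <;> rcases hb'' s hs with e2 | e2 <;> rw [e1, e2]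
    · left; trivial
    · right; group
    · right
      rw [mul_assoc a p b, hpb]; group
    · left
      calc a * p * (b * p) = a * (p * b) * p := by group
        _ = a * (b * p) * p := by rw [hpb]
        _ = a * b * (p * p) := by group
        _ = a * b := by rw [h.ln.sq p hp, mul_one]
  one_mem' := ⟨one_mem _, one_mem _, fun s _ => Or.inl (by group)⟩
  inv_mem' := by
    rintro a ⟨ha, ha', ha''⟩
    have e : a⁻¹ = a := inv_eq_of_mul_eq_one_left (h.sq hp hp1 a ha)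
    rw [e]
    exact ⟨ha, ha', ha''⟩

theorem mem_psi {D : Subgroup G} {p w : G} (hp : p ∈ V) (hp1 : p ≠ 1) : w ∈ h.psi D hp hp1 ↔
    w ∈ ws V p ∧ w ∈ centralizer (D : Set G) ∧ ∀ s ∈ qt T V, s * w * s⁻¹ = w ∨ s * w * s⁻¹ = w * p := Iff.rfl

theorem V_cent {D : Subgroup G} (hD : D ≤ qt T V) : V ≤ centralizer (D : Set G) := fun v hv =>
  mem_centralizer_iff.2 fun _ hd => (mem_qt.1 (hD hd)).2 v hv

theorem V_le_psi {D : Subgroup G} (hD : D ≤ qt T V) {p : G} (hp : p ∈ V) (hp1 : p ≠ 1) : V ≤ h.psi D hp hp1 :=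
  fun v hv => ⟨h.V_le hp hp1 hv, h.V_cent hD hv, fun s hs => Or.inl (by
    rw [(mem_qt.1 hs).2 v hv]; group)⟩

theorem psi_inf {D : Subgroup G} {p q w : G} (hp : p ∈ V) (hp1 : p ≠ 1) (hq : q ∈ V) (hq1 : q ≠ 1) (hqp : q ≠ p)
    (h1 : w ∈ h.psi D hp hp1) (h2 : w ∈ h.psi D hq hq1) : w ∈ V := by
  refine h.qt_omega (h.mem_ii hp hp1 hq hq1 hqp h1.1 h2.1) fun s hs => ?_
  rcases h1.2.2 s hs with e1 | e1
  · exact comm_of_conj_eq e1
  · rcases h2.2.2 s hs with e2 | e2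
    · exact comm_of_conj_eq e2
    · exfalso
      rw [e1] at e2
      exact hqp (mul_left_cancel e2).symm

/-! ### the count -/

theorem psi_conj {D : Subgroup G} {g p q w : G} (hp : p ∈ V) (hp1 : p ≠ 1) (hq : q ∈ V) (hq1 : q ≠ 1)
    (hgp : g * p * g⁻¹ = q) (hg : ∀ s ∈ qt T V, g⁻¹ * s * g ∈ qt T V) (hgD : g ∈ normalizer (D : Set G))
    (hw : w ∈ h.psi D hp hp1) : g * w * g⁻¹ ∈ h.psi D hq hq1 := by
  obtain ⟨h1, h2, h3⟩ := hw
  refine ⟨?_, ?_, fun s hs => ?_⟩
  · have := conj_mem_ws g h1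
    rwa [hgp] at this
  · exact (mem_normalizer_iff.1 (normalizer_le_normalizer_centralizer D hgD) w).1 h2
  · have e : s * (g * w * g⁻¹) * s⁻¹ = g * ((g⁻¹ * s * g) * w * (g⁻¹ * s * g)⁻¹) * g⁻¹ := by group
    rw [e]
    rcases h3 _ (hg s hs) with e1 | e1
    · left; rw [e1]
    · right
      rw [e1, ← hgp]; group

/-- the count: `Ψ_y = V` for `y ≠ z` -/
theorem psi_le_aux (hc : ∀ p ∈ V, p ≠ 1 → ∀ q ∈ V, q ≠ 1 → Com V p q) {D : Subgroup G} (hO : OffQ T V D)
    {y : G} (hy : y ∈ V) (hy1 : y ≠ 1) (hyz : y ≠ z) : h.psi D hy hy1 ≤ V := by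
  obtain ⟨A, hAT, hAV, hoff⟩ := hO.ex
  obtain ⟨a, ha, ha1⟩ := SetLike.not_le_iff_exists.1 hAV
  have haT := hAT ha
  -- the second point
  set y' := z * y with hy'
  have hy'V : y' ∈ V := mul_mem h.ln.z_mem hy
  have hy'1 : y' ≠ 1 := h.mul_ne_one hy (Ne.symm hyz)
  have hyy' : y' ≠ y := fun e => h.ln.z_ne (by simpa [hy'] using e)
  have hy'z : y' ≠ z := fun e => hy1 (by simpa [hy'] using e)
  have hay : a * y * a⁻¹ = y' := h.move_T haT ha1 hy hy1 hyz
  have hay' : a * y' * a⁻¹ = y := by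
    have := h.move_T haT ha1 hy'V hy'1 hy'z
    rw [this, hy', ← mul_assoc, h.ln.zz, one_mul]
  set Y := h.psi D hy hy1 with hY
  set Y' := h.psi D hy'V hy'1 with hY'
  have hVY : V ≤ Y := h.V_le_psi hO.D_le hy hy1
  have hVY' : V ≤ Y' := h.V_le_psi hO.D_le hy'V hy'1
  have haD : a ∈ normalizer (D : Set G) := hO.D_norm (by
    rw [mem_normalizer_iff]
    refine fun s => ⟨h.qt_conj haT, fun hs => ?_⟩
    have := h.qt_conj' haT hs
    have e : a⁻¹ * (a * s * a⁻¹) * a = s := by group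
    rwa [e] at this)
  have hYa : ∀ w ∈ Y, a * w * a⁻¹ ∈ Y' := fun w hw =>
    h.psi_conj hy hy1 hy'V hy'1 hay (fun s hs => h.qt_conj' haT hs) haD hw
  have hY'a : ∀ w ∈ Y', a * w * a⁻¹ ∈ Y := fun w hw =>
    h.psi_conj hy'V hy'1 hy hy1 hay' (fun s hs => h.qt_conj' haT hs) haD hw
  have hYW : Y ≤ ws V y := fun w hw => hw.1
  have hY'W : Y' ≤ ws V y' := fun w hw => hw.1
  have hYc : ∀ u ∈ Y, ∀ v ∈ Y, u * v = v * u := fun u hu v hv => h.comm hy hy1 u hu.1 v hv.1
  have hY'c : ∀ u ∈ Y', ∀ v ∈ Y', u * v = v * u := fun u hu v hv => h.comm hy'V hy'1 u hu.1 v hv.1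
  have hYY' : ∀ u ∈ Y, ∀ v ∈ Y', u * v = v * u := fun u hu v hv => hc y hy hy1 y' hy'V hy'1 u hu.1 v hv.1
  have hinf : Y ⊓ Y' = V := le_antisymm (fun w hw => h.psi_inf hy hy1 hy'V hy'1 hyy' hw.1 hw.2) (le_inf hVY hVY')
  -- `A₀ = C_A(V)`
  set A0 : Subgroup G := A ⊓ centralizer (V : Set G) with hA0
  have hA0Q : A0 ≤ qt T V := fun b hb => ⟨hAT hb.1, hb.2⟩
  have hA0Y : ∀ b ∈ A0, ∀ w ∈ Y, b * w * b⁻¹ = w ∨ b * w * b⁻¹ = w * y := fun b hb w hw => hw.2.2 b (hA0Q hb)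
  have hA0Y' : ∀ b ∈ A0, ∀ w ∈ Y', b * w * b⁻¹ = w ∨ b * w * b⁻¹ = w * y' := fun b hb w hw => hw.2.2 b (hA0Q hb)
  have hA2 : ∀ b ∈ A, b ∈ A0 ∨ a⁻¹ * b ∈ A0 := by
    intro b hb
    by_cases hb1 : b ∈ centralizer (V : Set G)
    · exact Or.inl ⟨hb, hb1⟩
    · exact Or.inr ⟨A.mul_mem (A.inv_mem ha) hb, (h.T_mul haT ha1 (hAT hb) hb1).2⟩
  -- `F = Y Y'`
  set F : Subgroup G := Y ⊔ Y' with hF
  have hYF : Y ≤ F := le_sup_left
  have hY'F : Y' ≤ F := le_sup_right
  have hcF : ∀ x ∈ F, ∀ u ∈ F, x * u = u * x := by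
    intro x hx u hu
    obtain ⟨x1, hx1, x2, hx2, rfl⟩ := mem_sup_c hYY' hx
    obtain ⟨u1, hu1, u2, hu2, rfl⟩ := mem_sup_c hYY' hu
    have e1 := hYc x1 hx1 u1 hu1
    have e2 := hY'c x2 hx2 u2 hu2
    have e3 := hYY' x1 hx1 u2 hu2
    have e4 := hYY' u1 hu1 x2 hx2
    calc x1 * x2 * (u1 * u2) = x1 * (x2 * u1) * u2 := by group
      _ = x1 * (u1 * x2) * u2 := by rw [e4]
      _ = (x1 * u1) * (x2 * u2) := by group
      _ = (u1 * x1) * (u2 * x2) := by rw [e1, e2]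
      _ = u1 * (x1 * u2) * x2 := by group
      _ = u1 * (u2 * x1) * x2 := by rw [e3]
      _ = u1 * u2 * (x1 * x2) := by group
  have hsF : ∀ x ∈ F, x * x = 1 := by
    intro x hx
    obtain ⟨x1, hx1, x2, hx2, rfl⟩ := mem_sup_c hYY' hx
    have e3 := hYY' x1 hx1 x2 hx2
    calc x1 * x2 * (x1 * x2) = x1 * (x2 * x1) * x2 := by group
      _ = x1 * (x1 * x2) * x2 := by rw [e3]
      _ = (x1 * x1) * (x2 * x2) := by group
      _ = 1 := by rw [h.sq hy hy1 x1 hx1.1, h.sq hy'V hy'1 x2 hx2.1, one_mul]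
  have hFQ : F ≤ qt T V := sup_le (hYW.trans (h.ws_le_qt hy hy1)) (hY'W.trans (h.ws_le_qt hy'V hy'1))
  have hFD : F ≤ centralizer (D : Set G) := sup_le (fun w hw => hw.2.1) (fun w hw => hw.2.1)
  have hVF : V ≤ F := hVY.trans hYF
  have hA0F : ∀ b ∈ A0, ∀ x ∈ F, b * x * b⁻¹ ∈ F := by
    intro b hb x hx
    obtain ⟨x1, hx1, x2, hx2, rfl⟩ := mem_sup_c hYY' hx
    have e : b * (x1 * x2) * b⁻¹ = (b * x1 * b⁻¹) * (b * x2 * b⁻¹) := by group
    rw [e]
    refine F.mul_mem (hYF ?_) (hY'F ?_)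
    · rcases hA0Y b hb x1 hx1 with e1 | e1 <;> rw [e1]
      · exact hx1
      · exact Y.mul_mem hx1 (hVY hy)
    · rcases hA0Y' b hb x2 hx2 with e1 | e1 <;> rw [e1]
      · exact hx2
      · exact Y'.mul_mem hx2 (hVY' hy'V)
  have haF : ∀ x ∈ F, a * x * a⁻¹ ∈ F := by
    intro x hx
    obtain ⟨x1, hx1, x2, hx2, rfl⟩ := mem_sup_c hYY' hx
    have e : a * (x1 * x2) * a⁻¹ = (a * x1 * a⁻¹) * (a * x2 * a⁻¹) := by group
    rw [e]
    exact F.mul_mem (hY'F (hYa _ hx1)) (hYF (hY'a _ hx2))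
  have hAF : ∀ b ∈ A, ∀ x ∈ F, b * x * b⁻¹ ∈ F := by
    intro b hb x hx
    rcases hA2 b hb with hb0 | hb0
    · exact hA0F b hb0 x hx
    · have h1 := haF _ (hA0F _ hb0 x hx)
      have e : a * (a⁻¹ * b * x * (a⁻¹ * b)⁻¹) * a⁻¹ = b * x * b⁻¹ := by group
      rwa [e] at h1
  have hO1 := hoff F hFQ hFD hVF hcF hsF hAF
  -- the orders
  have hA0c : ∀ b ∈ A0, ∀ x ∈ F, a * (b * x * b⁻¹) * a⁻¹ = b * (a * x * a⁻¹) * b⁻¹ := by
    intro b hb x hx
    have h1 := hO1.comm a ha b hb.1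
    have h2 : b * (a * x * a⁻¹) * b⁻¹ ∈ F := hAF b hb.1 _ (hAF a ha x hx)
    have h3 := mem_centralizer_iff.1 h1 _ h2
    calc a * (b * x * b⁻¹) * a⁻¹
        = (a * b * a⁻¹ * b⁻¹) * (b * (a * x * a⁻¹) * b⁻¹) * (a * b * a⁻¹ * b⁻¹)⁻¹ := by group
      _ = b * (a * x * a⁻¹) * b⁻¹ := by rw [← h3, mul_inv_cancel_right]
  have c1 : Nat.card (A0 ⊓ centralizer (Y : Set G) : Subgroup G) ≤ Nat.card (A ⊓ centralizer (F : Set G) : Subgroup G) := by
    refine Subgroup.card_le_of_le (le_inf (inf_le_left.trans inf_le_left) ?_)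
    rintro b ⟨hb, hbY⟩
    replace hbY := mem_centralizer_iff.1 hbY
    refine mem_centralizer_iff.2 fun x hx => ?_
    obtain ⟨x1, hx1, x2, hx2, rfl⟩ := mem_sup_c hYY' hx
    have h1 := hbY x1 hx1
    have h2 : x2 * b = b * x2 := by
      have h3 := hbY _ (hY'a x2 hx2)
      have h4 := hA0c b hb x2 (hY'F hx2)
      have h5 : b * (a * x2 * a⁻¹) * b⁻¹ = a * x2 * a⁻¹ := by rw [← h3, mul_inv_cancel_right]
      rw [h5] at h4
      have h6 : b * x2 * b⁻¹ = x2 := mul_left_cancel (mul_right_cancel h4)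
      exact (comm_of_conj_eq h6).symm
    rw [mul_assoc, h2, ← mul_assoc, h1, mul_assoc]
  have c2 : Nat.card A ≤ 2 * Nat.card A0 := by
    have h1 : A0.relIndex A ≤ 2 := by
      by_contra hlt
      have h2 : A0.relIndex A = (A0.subgroupOf A).index := rfl
      have h3 : (A0.subgroupOf A).index ≤ 2 := by
        rw [Subgroup.index]
        have : Function.Surjective (fun b : Bool => if b then ((1 : A) : A ⧸ A0.subgroupOf A) else
            ((⟨a, ha⟩ : A) : A ⧸ A0.subgroupOf A)) := by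
          intro q
          induction q using QuotientGroup.induction_on with
          | _ b =>
          rcases hA2 b b.2 with hb | hb
          · refine ⟨true, ?_⟩
            change ((1 : A) : A ⧸ A0.subgroupOf A) = _
            rw [QuotientGroup.eq]
            simpa [mem_subgroupOf] using hb
          · refine ⟨false, ?_⟩
            change ((⟨a, ha⟩ : A) : A ⧸ A0.subgroupOf A) = _
            rw [QuotientGroup.eq]
            simpa [mem_subgroupOf] using hb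
        have h4 := Nat.card_le_card_of_surjective _ this
        simpa using h4
      omega
    have h2 := ML.card_mul_relIndex (inf_le_left : A0 ≤ A)
    calc Nat.card A = Nat.card A0 * A0.relIndex A := h2.symm
      _ ≤ Nat.card A0 * 2 := Nat.mul_le_mul_left _ h1
      _ = _ := mul_comm _ _
  set r := (centralizer (A0 : Set G)).relIndex Y with hr
  have c3 : Nat.card A0 ≤ Nat.card (A0 ⊓ centralizer (Y : Set G) : Subgroup G) * r := by
    have hpair : BTwo.Pairing A0 Y (zpowers y) := by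
      refine ⟨fun b hb w hw => ?_, fun b hb t ht => ?_, fun w hw t ht => ?_⟩
      · rcases hA0Y b hb w hw with e | e <;> rw [e]
        · rw [mul_inv_cancel]; exact one_mem _
        · rw [h.comm hy hy1 w hw.1 y (h.V_le hy hy1 hy), mul_inv_cancel_right]
          exact mem_zpowers y
      · obtain ⟨k, rfl⟩ := mem_zpowers_iff.1 ht
        have : Commute b y := (mem_qt.1 (hA0Q hb)).2 y hy
        exact this.zpow_right k
      · obtain ⟨k, rfl⟩ := mem_zpowers_iff.1 ht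
        have : Commute w y := h.comm hy hy1 w hw.1 y (h.V_le hy hy1 hy)
        exact this.zpow_right k
    obtain ⟨ξ, hξ⟩ := BTwo.exists_char (T := zpowers y) (fun u hu v hv => by
      obtain ⟨k, rfl⟩ := mem_zpowers_iff.1 hu
      obtain ⟨l, rfl⟩ := mem_zpowers_iff.1 hv
      rw [← zpow_add, ← zpow_add, add_comm]) (mem_zpowers y) hy1
    have hle := hpair.relIndex_le ξ (K := centralizer (Y : Set G)) (N := centralizer (A0 : Set G))
      (fun w hw w' hw' => by
        rw [hYc w hw w' hw', mul_assoc, mul_assoc]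
        simp only [mul_inv_cancel_left, mul_inv_cancel]
        exact one_mem _)
      (fun b hb n hn hnc => by
        have e : b * n * b⁻¹ * n⁻¹ = 1 := by
          rw [mem_centralizer_iff.1 hnc b hb]
          group
        have e2 : (⟨b * n * b⁻¹ * n⁻¹, hpair.comm b hb n hn⟩ : zpowers y) = 1 := Subtype.ext e
        rw [e2, map_one])
      (fun b hb hall => by
        rw [mem_centralizer_iff]
        intro w hw
        rcases hA0Y b hb w hw with e | e
        · exact (comm_of_conj_eq e).symm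
        · exfalso
          apply hξ
          have h1 := hall w hw
          have e2 : (⟨b * w * b⁻¹ * w⁻¹, hpair.comm b hb w hw⟩ : zpowers y) = ⟨y, mem_zpowers y⟩ := by
            apply Subtype.ext
            change b * w * b⁻¹ * w⁻¹ = y
            rw [e, h.comm hy hy1 w hw.1 y (h.V_le hy hy1 hy), mul_inv_cancel_right]
          rwa [e2] at h1)
    have h2 : Nat.card (A0 ⊓ centralizer (Y : Set G) : Subgroup G) * (centralizer (Y : Set G)).relIndex A0 =
        Nat.card A0 := by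
      rw [← Subgroup.inf_relIndex_left]
      exact ML.card_mul_relIndex inf_le_left
    rw [← h2]
    exact Nat.mul_le_mul_left _ hle
  set Y0 : Subgroup G := Y ⊓ centralizer (A0 : Set G) with hY0
  set Y0' : Subgroup G := Y' ⊓ centralizer (A0 : Set G) with hY0'
  have c4 : Nat.card Y0 * r = Nat.card Y := by
    rw [hr, ← Subgroup.inf_relIndex_left]
    exact ML.card_mul_relIndex inf_le_left
  have c5 : Nat.card F * 4 = Nat.card Y * Nat.card Y' := by
    have h1 := ML.card_sup_mul_of_comm hYY'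
    rwa [hinf, h.ln.card_V] at h1
  have c6 : Nat.card Y ≤ Nat.card Y' := card_le_conj a hYa
  have hVA0 : V ≤ centralizer (A0 : Set G) := fun v hv =>
    mem_centralizer_iff.2 fun b hb => (mem_qt.1 (hA0Q hb)).2 v hv
  have c7 : Nat.card Y0' ≤ Nat.card Y0 := by
    refine card_le_conj a fun x hx => ⟨hY'a x hx.1, mem_centralizer_iff.2 fun b hb => ?_⟩
    have h1 := mem_centralizer_iff.1 hx.2 b hb
    have h4 := hA0c b hb x (hY'F hx.1)
    rw [h1, mul_inv_cancel_right] at h4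
    exact comm_of_conj_eq h4.symm
  set C : Subgroup G := F ⊓ centralizer (A : Set G) with hC
  -- `C ≤ Y0 Y0'`
  have hCY : C ≤ Y0 ⊔ Y0' := by
    rintro x ⟨hx, hxA⟩
    obtain ⟨x1, hx1, x2, hx2, rfl⟩ := mem_sup_c hYY' hx
    have key : ∀ b ∈ A0, b * x1 * b⁻¹ = x1 ∧ b * x2 * b⁻¹ = x2 := by
      intro b hb
      have h1 := mem_centralizer_iff.1 hxA b hb.1
      have e : b * x1 * b⁻¹ * (b * x2 * b⁻¹) = x1 * x2 := by
        calc b * x1 * b⁻¹ * (b * x2 * b⁻¹) = b * (x1 * x2) * b⁻¹ := by group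
          _ = x1 * x2 := by rw [h1]; group
      rcases hA0Y b hb x1 hx1 with e1 | e1 <;> rcases hA0Y' b hb x2 hx2 with e2 | e2
      · exact ⟨e1, e2⟩
      · exfalso
        rw [e1, e2, ← mul_assoc] at e
        exact hy'1 (by simpa using e)
      · exfalso
        rw [e1, e2, h.comm hy hy1 x1 hx1.1 y (h.V_le hy hy1 hy), mul_assoc] at e
        exact hy1 (by simpa using e)
      · exfalso
        rw [e1, e2] at e
        have h3 : y * x2 = x2 * y := hYY' y (hVY hy) x2 hx2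
        have e3 : x1 * y * (x2 * y') = x1 * x2 * (y * y') := by
          calc x1 * y * (x2 * y') = x1 * (y * x2) * y' := by group
            _ = x1 * (x2 * y) * y' := by rw [h3]
            _ = x1 * x2 * (y * y') := by group
        rw [e3] at e
        have e4 : y * y' = 1 := by simpa using e
        exact h.mul_ne_one hy'V (Ne.symm hyy') e4
    refine mul_mem (mem_sup_left ⟨hx1, mem_centralizer_iff.2 fun b hb => comm_of_conj_eq (key b hb).1⟩)
      (mem_sup_right ⟨hx2, mem_centralizer_iff.2 fun b hb => comm_of_conj_eq (key b hb).2⟩)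
  have c8 : 2 * Nat.card C ≤ Nat.card Y0 := by
    have hCc : ∀ x ∈ C, ∀ u ∈ Y0, x * u = u * x := fun x hx u hu => hcF x hx.1 u (hYF hu.1)
    have h1 := ML.card_sup_mul_of_comm hCc
    have h2 : Nat.card (C ⊓ Y0 : Subgroup G) ≤ 2 := by
      have h3 : C ⊓ Y0 ≤ zpowers z := by
        rintro x ⟨hx, hx0⟩
        have hxa : a * x = x * a := mem_centralizer_iff.1 hx.2 a ha
        have hxV : x ∈ V := by
          rw [← hinf]
          refine ⟨hx0.1, ?_⟩
          have := hYa x hx0.1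
          rwa [hxa, mul_inv_cancel_right] at this
        rcases h.ln.four h.ln.z_mem hy h.ln.z_ne hy1 (Ne.symm hyz) hxV with e | e | e | e
        · rw [e]; exact one_mem _
        · rw [e]; exact mem_zpowers z
        · exfalso
          rw [e] at hxa
          have := hay
          rw [hxa, mul_inv_cancel_right] at this
          exact hyy' this.symm
        · exfalso
          rw [e] at hxa
          have h4 := hay'
          rw [hxa, mul_inv_cancel_right] at h4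
          exact hyy' h4
      have h4 : Nat.card (zpowers z) = 2 := by
        rw [Nat.card_zpowers, orderOf_eq_prime (by rw [pow_two]; exact h.ln.zz) h.ln.z_ne]
      exact (Subgroup.card_le_of_le h3).trans h4.le
    have h3 : Nat.card (C ⊔ Y0 : Subgroup G) ≤ Nat.card (Y0 ⊔ Y0' : Subgroup G) :=
      Subgroup.card_le_of_le (sup_le hCY le_sup_left)
    have hYc0 : ∀ x ∈ Y0, ∀ u ∈ Y0', x * u = u * x := fun x hx u hu => hYY' x hx.1 u hu.1
    have h4 := ML.card_sup_mul_of_comm hYc0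
    have h5 : 4 ≤ Nat.card (Y0 ⊓ Y0' : Subgroup G) := by
      rw [← h.ln.card_V]
      exact Subgroup.card_le_of_le (le_inf (le_inf hVY hVA0) (le_inf hVY' hVA0))
    have h6 : 0 < Nat.card Y0 := Nat.card_pos
    have h7 : Nat.card (Y0 ⊔ Y0' : Subgroup G) * 4 ≤ Nat.card Y0 * Nat.card Y0 := by
      calc Nat.card (Y0 ⊔ Y0' : Subgroup G) * 4
          ≤ Nat.card (Y0 ⊔ Y0' : Subgroup G) * Nat.card (Y0 ⊓ Y0' : Subgroup G) := Nat.mul_le_mul_left _ h5
        _ = Nat.card Y0 * Nat.card Y0' := h4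
        _ ≤ _ := Nat.mul_le_mul_left _ c7
    have h8 : Nat.card C * Nat.card Y0 ≤ Nat.card (Y0 ⊔ Y0' : Subgroup G) * 2 := by
      rw [← h1]
      exact Nat.mul_le_mul h3 h2
    have h9 : (2 * Nat.card C) * Nat.card Y0 ≤ Nat.card Y0 * Nat.card Y0 := by
      calc (2 * Nat.card C) * Nat.card Y0 = 2 * (Nat.card C * Nat.card Y0) := by ring
        _ ≤ 2 * (Nat.card (Y0 ⊔ Y0' : Subgroup G) * 2) := Nat.mul_le_mul_left _ h8
        _ = Nat.card (Y0 ⊔ Y0' : Subgroup G) * 4 := by ring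
        _ ≤ _ := h7
    exact Nat.le_of_mul_le_mul_right h9 h6
  -- conclusion
  have hk : 0 < Nat.card (A0 ⊓ centralizer (Y : Set G) : Subgroup G) := Nat.card_pos
  have d1 : Nat.card F ≤ Nat.card Y := by
    have h1 : Nat.card (A0 ⊓ centralizer (Y : Set G) : Subgroup G) * Nat.card F ≤
        Nat.card (A0 ⊓ centralizer (Y : Set G) : Subgroup G) * Nat.card Y := by
      calc _ ≤ Nat.card (A ⊓ centralizer (F : Set G) : Subgroup G) * Nat.card F := Nat.mul_le_mul_right _ c1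
        _ = Nat.card F * Nat.card (A ⊓ centralizer (F : Set G) : Subgroup G) := mul_comm _ _
        _ ≤ Nat.card A * Nat.card C := hO1.le
        _ ≤ (2 * Nat.card A0) * Nat.card C := Nat.mul_le_mul_right _ c2
        _ ≤ (2 * (Nat.card (A0 ⊓ centralizer (Y : Set G) : Subgroup G) * r)) * Nat.card C :=
          Nat.mul_le_mul_right _ (Nat.mul_le_mul_left _ c3)
        _ = Nat.card (A0 ⊓ centralizer (Y : Set G) : Subgroup G) * (r * (2 * Nat.card C)) := by ring
        _ ≤ Nat.card (A0 ⊓ centralizer (Y : Set G) : Subgroup G) * (r * Nat.card Y0) :=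
          Nat.mul_le_mul_left _ (Nat.mul_le_mul_left _ c8)
        _ = _ := by rw [mul_comm r, c4]
    exact Nat.le_of_mul_le_mul_left h1 hk
  have hYpos : 0 < Nat.card Y := Nat.card_pos
  have d2 : Nat.card Y ≤ 4 := by
    have h1 : Nat.card Y * Nat.card Y ≤ Nat.card Y * 4 := by
      calc Nat.card Y * Nat.card Y ≤ Nat.card Y * Nat.card Y' := Nat.mul_le_mul_left _ c6
        _ = Nat.card F * 4 := c5.symm
        _ ≤ Nat.card Y * 4 := Nat.mul_le_mul_right _ d1
    exact Nat.le_of_mul_le_mul_left h1 hYpos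
  have d3 : V = Y := Subgroup.eq_of_le_of_card_ge hVY (by rw [h.ln.card_V]; exact d2)
  exact d3.ge

/-- `Q = C_T(V)` is Sylow in `C_G(V)` -/
theorem qt_syl : ¬ 2 ∣ (qt T V).relIndex (centralizer (V : Set G)) := by
  intro hdvd
  apply h.ln.T_syl'
  set N : Subgroup G := centralizer (V : Set G) with hN
  have hNn : N ≤ normalizer (V : Set G) := centralizer_le_normalizer _
  have hTn : T ≤ normalizer (N : Set G) := h.ln.T_norm.trans (normalizer_le_normalizer_centralizer V)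
  have h1 := ML.card_sup_mul hTn
  have h2 : T.relIndex (N ⊔ T) = (qt T V).relIndex N := by
    have h3 := ML.card_mul_relIndex (le_sup_right : T ≤ N ⊔ T)
    have h4 := ML.card_mul_relIndex (inf_le_right : T ⊓ N ≤ N)
    have h5 : 0 < Nat.card T := Nat.card_pos
    have h6 : 0 < Nat.card (T ⊓ N : Subgroup G) := Nat.card_pos
    rw [inf_comm N T] at h1
    have h7 : (Nat.card T * Nat.card (T ⊓ N : Subgroup G)) * T.relIndex (N ⊔ T) =
        (Nat.card T * Nat.card (T ⊓ N : Subgroup G)) * (T ⊓ N).relIndex N := by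
      calc (Nat.card T * Nat.card (T ⊓ N : Subgroup G)) * T.relIndex (N ⊔ T)
          = (Nat.card T * T.relIndex (N ⊔ T)) * Nat.card (T ⊓ N : Subgroup G) := by ring
        _ = Nat.card N * Nat.card T := by rw [h3, h1]
        _ = Nat.card T * (Nat.card (T ⊓ N : Subgroup G) * (T ⊓ N).relIndex N) := by rw [h4, mul_comm]
        _ = _ := by ring
    exact Nat.eq_of_mul_eq_mul_left (Nat.mul_pos h5 h6) h7
  have h3 := relIndex_mul_relIndex T (N ⊔ T) (normalizer (V : Set G)) le_sup_right (sup_le hNn h.ln.T_norm)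
  rw [← h3, h2]
  exact hdvd.mul_right _

/-- Frattini: some `g ∈ N(V) ∩ N(Q)` moves `y` to `z` -/
theorem exists_frat {y : G} (hy : y ∈ V) (hy1 : y ≠ 1) : ∃ g ∈ normalizer (V : Set G),
    g ∈ normalizer (qt T V : Set G) ∧ g * y * g⁻¹ = z := by
  obtain ⟨k, hk, hky⟩ := h.ln.trans y hy hy1
  have hk' : k⁻¹ ∈ normalizer (V : Set G) := inv_mem hk
  have hQ2 : IsPGroup 2 (qt T V) := h.ln.two.to_le inf_le_left
  have hQN : qt T V ≤ centralizer (V : Set G) := inf_le_right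
  have h1 : cj k⁻¹ (qt T V) ≤ centralizer (V : Set G) := by
    refine (cj_mono (g := k⁻¹) hQN).trans ?_
    rw [cj_eq_of_mem_normalizer (normalizer_le_normalizer_centralizer V hk')]
  obtain ⟨c, hc, hcQ⟩ := exists_cj_le_of_sylow hQN hQ2 h.qt_syl h1 (hQ2.map _)
  rw [cj_cj] at hcQ
  have hcV : c ∈ normalizer (V : Set G) := centralizer_le_normalizer _ hc
  refine ⟨c * k⁻¹, mul_mem hcV hk', ?_, ?_⟩
  · have h2 : cj (c * k⁻¹) (qt T V) = qt T V := by
      refine Subgroup.eq_of_le_of_card_ge hcQ ?_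
      rw [card_cj]
    exact mem_normalizer_iff_cj.2 h2
  · have h2 : k⁻¹ * y * k = z := by rw [← hky]; group
    have h3 : c * z = z * c := (mem_centralizer_iff.1 hc z h.ln.z_mem).symm
    calc c * k⁻¹ * y * (c * k⁻¹)⁻¹ = c * (k⁻¹ * y * k) * c⁻¹ := by group
      _ = z := by rw [h2, h3, mul_inv_cancel_right]

/-- **LEMMA FIX**: `{w ∈ C_{W_p}(D) : [w, Q] ≤ ⟨p⟩} = V` -/
theorem psi_le_V (hc : ∀ p ∈ V, p ≠ 1 → ∀ q ∈ V, q ≠ 1 → Com V p q) {D : Subgroup G} (hO : OffQ T V D)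
    {p : G} (hp : p ∈ V) (hp1 : p ≠ 1) : h.psi D hp hp1 ≤ V := by
  by_cases hpz : p = z
  · intro w hw
    obtain ⟨y, hy, hy1, hyz⟩ := h.ln.exists_y
    obtain ⟨g, hgV, hgQ, hgy⟩ := h.exists_frat hy hy1
    have hgQ' : ∀ s ∈ qt T V, (g⁻¹)⁻¹ * s * g⁻¹ ∈ qt T V := by
      intro s hs
      rw [inv_inv]
      exact (mem_normalizer_iff.1 hgQ s).1 hs
    have h1 := h.psi_conj (D := D) (g := g⁻¹) hp hp1 hy hy1 (by rw [hpz, ← hgy]; group) hgQ'
      (inv_mem (hO.D_norm hgQ)) hw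
    have h2 := h.psi_le_aux hc hO hy hy1 hyz h1
    exact (mem_normalizer_iff.1 (inv_mem hgV) w).2 h2
  · exact h.psi_le_aux hc hO hp hp1 hpz

/-- `w ∈ C_{W_z}(D)`, `[w, T] ≤ ⟨z⟩` implies `w ∈ V` -/
theorem fix (hc : ∀ p ∈ V, p ≠ 1 → ∀ q ∈ V, q ≠ 1 → Com V p q) {D : Subgroup G} (hO : OffQ T V D)
    {w : G} (hw : w ∈ ws V z) (hD : w ∈ centralizer (D : Set G)) (hT : ∀ s ∈ T, s * w * s⁻¹ = w ∨ s * w * s⁻¹ = w * z) :
    w ∈ V :=
  h.psi_le_V hc hO h.ln.z_mem h.ln.z_ne ⟨hw, hD, fun s hs => hT s hs.1⟩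

/-- a normal subgroup `N` with `N ∩ V = ⟨z⟩` : `C_N(D) ≤ ⟨z⟩` -/
theorem nor_le (hc : ∀ p ∈ V, p ≠ 1 → ∀ q ∈ V, q ≠ 1 → Com V p q) {D : Subgroup G} (hO : OffQ T V D)
    {N : Subgroup G} (hN : N ≤ ws V z) (hTN : T ≤ normalizer (N : Set G)) (hV : N ⊓ V ≤ zpowers z) :
    N ⊓ centralizer (D : Set G) ≤ zpowers z := by
  by_contra hne
  have hTQ : T ≤ normalizer (qt T V : Set G) := by
    intro t ht
    rw [mem_normalizer_iff]
    refine fun s => ⟨h.qt_conj ht, fun hs => ?_⟩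
    have := h.qt_conj' ht hs
    have e : t⁻¹ * (t * s * t⁻¹) * t = s := by group
    rwa [e] at this
  have hTD : T ≤ normalizer ((centralizer (D : Set G) : Subgroup G) : Set G) :=
    (hTQ.trans hO.D_norm).trans (normalizer_le_normalizer_centralizer D)
  have h1 : T ≤ normalizer ((N ⊓ centralizer (D : Set G) : Subgroup G) : Set G) := by
    intro t ht
    rw [mem_normalizer_iff]
    intro x
    rw [mem_inf, mem_inf, mem_normalizer_iff.1 (hTN ht) x, mem_normalizer_iff.1 (hTD ht) x]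
  have h2 : T ≤ normalizer ((zpowers z : Subgroup G) : Set G) :=
    (h.ln.T_le).trans (by
      intro g hg
      have hg' : Commute g z := h.ln.z_comm hg
      rw [mem_normalizer_iff]
      intro x
      constructor
      · intro hx
        obtain ⟨l, rfl⟩ := mem_zpowers_iff.1 hx
        rw [(hg'.zpow_right l).eq, mul_inv_cancel_right]
        exact hx
      · intro hx
        obtain ⟨l, hl⟩ := mem_zpowers_iff.1 hx
        have e : x = g⁻¹ * (z ^ l * g) := by rw [hl]; group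
        rw [e, ← (hg'.zpow_right l).eq, inv_mul_cancel_left]
        exact zpow_mem (mem_zpowers z) l)
  obtain ⟨m, hm, hmz, hmt⟩ := TwoMid.exists_fixed_mod h.ln.two ((inf_le_left.trans hN).trans h.ln.ws_le_T) h1 h2 hne
  apply hmz
  apply hV
  refine ⟨hm.1, h.fix hc hO (hN hm.1) hm.2 fun t ht => ?_⟩
  have hzw : z * m = m * z := h.ab z (h.ln.V_le_ws h.ln.z_mem) m (hN hm.1)
  rcases (mem_zpowers_iff_of_mul_self h.ln.zz).1 (hmt t ht) with e | e
  · left
    exact mul_inv_eq_one.1 e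
  · right
    rw [mul_inv_eq_iff_eq_mul] at e
    rw [e, hzw]

/-- `N_z = ⟨z⟩` (relative to `D`) -/
theorem cen_kq (hc : ∀ p ∈ V, p ≠ 1 → ∀ q ∈ V, q ≠ 1 → Com V p q) {D : Subgroup G} (hO : OffQ T V D) {w : G}
    (hw : w ∈ ws V z) (hD : w ∈ centralizer (D : Set G)) (hk : ∀ k ∈ kq V z, k * w = w * k) : w = 1 ∨ w = z := by
  set N : Subgroup G := ws V z ⊓ centralizer (kq V z : Set G) with hN
  have hTN : T ≤ normalizer (N : Set G) := by
    intro t ht
    have htz : t ∈ centralizer ({z} : Set G) := h.ln.T_le ht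
    have h1 := centralizer_le_normalizer_ws V z htz
    have h2 := normalizer_le_normalizer_centralizer _ (centralizer_le_normalizer_kq V z htz)
    rw [mem_normalizer_iff]
    intro x
    rw [hN, mem_inf, mem_inf, mem_normalizer_iff.1 h1 x, mem_normalizer_iff.1 h2 x]
  have hNV : N ⊓ V ≤ zpowers z := by
    rintro x ⟨hx, hxV⟩
    obtain ⟨k, hk1, hk2⟩ := h.f1
    by_cases hx1 : x = 1
    · rw [hx1]; exact one_mem _
    by_cases hxz : x = z
    · rw [hxz]; exact mem_zpowers z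
    exfalso
    have h1 := h.move h.ln.z_mem h.ln.z_ne hxV hx1 hxz hk1 hk2
    have h2 := mem_centralizer_iff.1 hx.2 k hk1
    rw [h2, mul_inv_cancel_right] at h1
    exact h.ln.z_ne (mul_eq_right.1 h1.symm)
  have h1 := h.nor_le hc hO inf_le_left hTN hNV
    (mem_inf.2 ⟨mem_inf.2 ⟨hw, mem_centralizer_iff.2 fun k hk' => hk k hk'⟩, hD⟩)
  exact (mem_zpowers_iff_of_mul_self h.ln.zz).1 h1

/-- `W_z / ⟨z⟩` is irreducible -/
theorem irr (hc : ∀ p ∈ V, p ≠ 1 → ∀ q ∈ V, q ≠ 1 → Com V p q) (hO : OffQ T V ⊥) {N : Subgroup G}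
    (hN : N ≤ ws V z) (hzN : z ∈ N) (hCN : centralizer ({z} : Set G) ≤ normalizer (N : Set G)) {n : G} (hn : n ∈ N)
    (hn1 : n ∉ zpowers z) : N = ws V z := by
  have h0 : centralizer ((⊥ : Subgroup G) : Set G) = ⊤ := by
    rw [eq_top_iff]
    intro x _
    rw [mem_centralizer_iff]
    intro y hy
    rw [mem_bot.1 hy, one_mul, mul_one]
  have hV : V ≤ N := by
    by_contra hV
    apply hn1
    have h1 := h.nor_le hc hO hN (h.ln.T_le.trans hCN) (by
      rintro x ⟨hx, hxV⟩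
      by_contra hxz
      apply hV
      have hx1 : x ≠ 1 := fun e => hxz (e ▸ one_mem _)
      have hxz' : x ≠ z := fun e => hxz (e ▸ mem_zpowers z)
      intro v hv
      rcases h.ln.four h.ln.z_mem hxV h.ln.z_ne hx1 (Ne.symm hxz') hv with e | e | e | e <;> rw [e]
      · exact one_mem _
      · exact hzN
      · exact hx
      · exact mul_mem hzN hx)
    rw [h0, inf_top_eq] at h1
    exact h1 hn
  refine le_antisymm hN (ws_le fun L hL => ?_)
  obtain ⟨c, hc', rfl⟩ := h.ln.exists_of_mem_lines hL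
  have h1 := cj_mono (g := c) hV
  rwa [mem_normalizer_iff_cj.1 (hCN hc')] at h1

end

end Fr

/-! ### where the offenders come from -/

section off

open Cfsg.Agent.ZN.ChoiceBase Cfsg.Agent.Omega.NO3S.Level

variable {T V : Subgroup G} {z : G} [Finite G]

theorem elem_of {F : Subgroup G} (hcF : ∀ x ∈ F, ∀ y ∈ F, x * y = y * x) (hsF : ∀ x ∈ F, x * x = 1) :
    IsElementaryAbelian 2 F :=
  ⟨⟨⟨fun a b => Subtype.ext (hcF a a.2 b b.2)⟩⟩, fun a ha => by rw [pow_two]; exact hsF a ha⟩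

/-- `J(T) ≰ C(V)` -/
theorem Fr.offQ_of_jj (_ : Fr T V z) (hj : ¬ jj T ≤ centralizer (V : Set G)) : OffQ T V ⊥ where
  D_le := bot_le
  D_norm := by
    intro g _
    rw [mem_normalizer_iff]
    intro x
    rw [mem_bot, mem_bot, conj_eq_one_iff]
  ex := by
    obtain ⟨A, hA, hAV⟩ : ∃ A ∈ AA T, ¬ A ≤ centralizer (V : Set G) := by
      by_contra hcon
      push Not at hcon
      apply hj
      rw [jj_eq]
      exact sSup_le hcon
    refine ⟨A, hA.2.1, hAV, fun F hF _ hVF hcF hsF _ => ?_⟩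
    have h1 := FFThm.off_of_AA (elem_of hcF hsF) (hF.trans inf_le_left) hA
      (fun e => hAV (e.trans (centralizer_le hVF)))
    exact h1.offM

/-- a level `K ≤ C(V)`, a best offender on `Ω₁(Z(K))` which moves `V` -/
theorem Fr.offQ_of_BO (_ : Fr T V z) {K : Subgroup G} (hK : Lev T K) (hKV : K ≤ centralizer (V : Set G))
    {A : Subgroup G} (hA : A ∈ BO T K) (hAV : ¬ A ≤ centralizer (V : Set G)) : OffQ T V K where
  D_le := le_inf hK.le hKV
  D_norm := hK.norm _ (le_inf hK.le hKV) inf_le_left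
  ex := ⟨A, hA.1, hAV, fun F hF hFK hVF hcF hsF _ => hA.2.offM (fun x hx => hK.mem_of_comm (hF hx).1
    (by rw [pow_two]; exact hsF x hx) fun y hy => mem_centralizer_iff.1 (hFK hx) y hy)
    (fun e => hAV (e.trans (centralizer_le hVF)))⟩

end off

end Cfsg.Agent.Omega.NO3S.Pt
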