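import Cfsg.Agent.Omega.NO3S.Pt.Base

/-!
# NO-3S, `|V| = 4`: collinearity, paths, critical pairs

* `Col V x y` : `x`, `y` are nontrivial elements of a conjugate of `V` (reflexive on points);
* `Pth V k x y` : a path of length `k` (repetitions allowed, so `Pth.mono`);
* `Com V x y` : `[W_x, W_y] = 1`; `Mn V n` : all pairs of distance `< n` commute;
* `Cr V n x y` : critical pair at distance `n`;
* `Fr.flag` : every flag `(x, L)` is as good as `(z, V)`;
* `Fr.ws_le_o2_of_pth` (T1) : `W_x ≤ O₂(C_G(y))` at distance `< n`;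
* `Cr.last` : the last line `L = {y', y, ..}` of a critical pair: `W_x ≤ O₂(C_G(L))`;
* `Cr.cent`, `Cr.norm`, `Cr.comm_mem_left`, `Cr.comm_mem_right`, `Cr.star` (STAR).
-/

set_option autoImplicit false
set_option linter.unusedSectionVars false

namespace Cfsg.Agent.Omega.NO3S.Pt

open Subgroup Cfsg Cfsg.Agent.ZN Cfsg.Agent.MinSimple.Geo Cfsg.Agent.Omega.CaseL Cfsg.Agent.Omega.NO3S.TwoOne
open Cfsg.Agent.ZN.Block (conj_mem_of_normalizer conj_mem_of_normalizer' le_normalizer_of_forall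
  mem_normalizer_of)

universe u

variable {G : Type u} [Group G]

theorem conj_mem_cent {A : Set G} {c a : G} (hc : c ∈ centralizer A) (ha : a ∈ centralizer A) :
    c * a * c⁻¹ ∈ centralizer A := mul_mem (mul_mem hc ha) (inv_mem hc)

/-! ### paths -/

/-- collinear (or equal) points: two nontrivial elements of a line -/
def Col (V : Subgroup G) (x y : G) : Prop := ∃ g : G, x ∈ cj g V ∧ y ∈ cj g V ∧ x ≠ 1 ∧ y ≠ 1

namespace Col

variable {V : Subgroup G} {x y : G}

theorem symm (h : Col V x y) : Col V y x := by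
  obtain ⟨g, h1, h2, h3, h4⟩ := h
  exact ⟨g, h2, h1, h4, h3⟩

theorem left (h : Col V x y) : Col V x x := by
  obtain ⟨g, h1, h2, h3, h4⟩ := h
  exact ⟨g, h1, h1, h3, h3⟩

theorem right (h : Col V x y) : Col V y y := h.symm.left

theorem ne_one (h : Col V x y) : x ≠ 1 := h.choose_spec.2.2.1

theorem conj (g : G) (h : Col V x y) : Col V (g * x * g⁻¹) (g * y * g⁻¹) := by
  obtain ⟨k, h1, h2, h3, h4⟩ := h
  refine ⟨g * k, ?_, ?_, fun e => h3 (conj_eq_one_iff.mp e), fun e => h4 (conj_eq_one_iff.mp e)⟩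
  · rw [← cj_cj]; exact conj_mem_cj h1
  · rw [← cj_cj]; exact conj_mem_cj h2

theorem of_mem {g : G} (hx : x ∈ cj g V) (hy : y ∈ cj g V) (hx1 : x ≠ 1) (hy1 : y ≠ 1) : Col V x y :=
  ⟨g, hx, hy, hx1, hy1⟩

end Col

/-- a path of length `k` -/
inductive Pth (V : Subgroup G) : ℕ → G → G → Prop
  | zero {x : G} (hx : Col V x x) : Pth V 0 x x
  | step {k : ℕ} {x y w : G} (h : Pth V k x y) (c : Col V y w) : Pth V (k + 1) x w

namespace Pth

variable {V : Subgroup G} {x y w : G} {k m : ℕ}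

theorem right (h : Pth V k x y) : Col V y y := by
  cases h with
  | zero hx => exact hx
  | step _ c => exact c.right

theorem left (h : Pth V k x y) : Col V x x := by
  induction h with
  | zero hx => exact hx
  | step _ _ ih => exact ih

theorem head (c : Col V x y) (h : Pth V k y w) : Pth V (k + 1) x w := by
  induction h with
  | zero _ => exact (Pth.zero c.left).step c
  | step _ c' ih => exact (ih c).step c'

theorem symm (h : Pth V k x y) : Pth V k y x := by
  induction h with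
  | zero hx => exact .zero hx
  | step _ c ih => exact ih.head c.symm

theorem trans (h : Pth V k x y) (h' : Pth V m y w) : Pth V (k + m) x w := by
  induction h' with
  | zero _ => exact h
  | step _ c ih => exact (ih h).step c

theorem conj (g : G) (h : Pth V k x y) : Pth V k (g * x * g⁻¹) (g * y * g⁻¹) := by
  induction h with
  | zero hx => exact .zero (hx.conj g)
  | step _ c ih => exact ih.step (c.conj g)

theorem succ (h : Pth V k x y) : Pth V (k + 1) x y := h.step h.right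

theorem mono (h : Pth V k x y) (hkm : k ≤ m) : Pth V m x y := by
  induction hkm with
  | refl => exact h
  | step _ ih => exact ih.succ

theorem of_col (c : Col V x y) : Pth V 1 x y := (Pth.zero c.left).step c

theorem col (h : Pth V 1 x y) : Col V x y := by
  cases h with
  | step h c =>
    cases h with
    | zero _ => exact c

theorem exists_mid (h : Pth V 2 x y) : ∃ r, Col V x r ∧ Col V r y := by
  cases h with
  | step h c => exact ⟨_, h.col, c⟩

end Pth

/-- `[W_x, W_y] = 1` -/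
def Com (V : Subgroup G) (x y : G) : Prop := ∀ a ∈ ws V x, ∀ b ∈ ws V y, a * b = b * a

theorem Com.symm {V : Subgroup G} {x y : G} (h : Com V x y) : Com V y x := fun a ha b hb => (h b hb a ha).symm

theorem Com.conj {V : Subgroup G} {x y : G} (h : Com V x y) (g : G) : Com V (g * x * g⁻¹) (g * y * g⁻¹) := by
  unfold Com
  rw [← cj_ws, ← cj_ws]
  intro a ha b hb
  have h1 := h _ (mem_cj.mp ha) _ (mem_cj.mp hb)
  calc a * b = g * ((g⁻¹ * a * g) * (g⁻¹ * b * g)) * g⁻¹ := by group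
    _ = g * ((g⁻¹ * b * g) * (g⁻¹ * a * g)) * g⁻¹ := by rw [h1]
    _ = b * a := by group

theorem Com.of_conj {V : Subgroup G} {x y : G} (g : G) (h : Com V (g * x * g⁻¹) (g * y * g⁻¹)) : Com V x y := by
  have := h.conj g⁻¹
  have e : ∀ x : G, g⁻¹ * (g * x * g⁻¹) * g⁻¹⁻¹ = x := fun x => by group
  rwa [e, e] at this

/-- all pairs of distance `< n` commute -/
def Mn (V : Subgroup G) (n : ℕ) : Prop := ∀ k < n, ∀ a b, Pth V k a b → Com V a b

/-- critical pair -/
structure Cr (V : Subgroup G) (n : ℕ) (x y : G) : Prop where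
  path : Pth V n x y
  ne : ¬ Com V x y
  min : Mn V n

namespace Cr

variable {V : Subgroup G} {n : ℕ} {x y : G}

theorem symm (h : Cr V n x y) : Cr V n y x := ⟨h.path.symm, fun e => h.ne e.symm, h.min⟩

theorem conj (h : Cr V n x y) (g : G) : Cr V n (g * x * g⁻¹) (g * y * g⁻¹) :=
  ⟨h.path.conj g, fun e => h.ne (e.of_conj g), h.min⟩

end Cr

/-! ### all flags -/

namespace Fr

variable {T V : Subgroup G} {z : G}

theorem flag (h : Fr T V z) {g x : G} (hx : x ∈ cj g V) (hx1 : x ≠ 1) :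
    ∃ k, cj k V = cj g V ∧ k * z * k⁻¹ = x ∧ Fr (cj k T) (cj g V) x := by
  rw [mem_cj] at hx
  have hx1' : g⁻¹ * x * g ≠ 1 := fun e => hx1 (by
    have : x = g * (g⁻¹ * x * g) * g⁻¹ := by group
    rw [this, e]; group)
  obtain ⟨m, hm, hmz, hf⟩ := h.point hx hx1'
  have h1 := hf.conj g
  have e : g * (g⁻¹ * x * g) * g⁻¹ = x := by group
  rw [e, cj_cj] at h1
  refine ⟨g * m, ?_, ?_, h1⟩
  · rw [← cj_cj, cj_eq_of_mem_normalizer hm]
  · calc g * m * z * (g * m)⁻¹ = g * (m * z * m⁻¹) * g⁻¹ := by group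
      _ = x := by rw [hmz]; group

theorem exists_flag (h : Fr T V z) {x : G} (hx : Col V x x) :
    ∃ g k, x ∈ cj g V ∧ cj k V = cj g V ∧ k * z * k⁻¹ = x ∧ Fr (cj k T) (cj g V) x := by
  obtain ⟨g, h1, -, h2, -⟩ := hx
  obtain ⟨k, hk⟩ := h.flag h1 h2
  exact ⟨g, k, h1, hk⟩

theorem isPt (h : Fr T V z) {x : G} (hx : Col V x x) : ∃ k, k * z * k⁻¹ = x := by
  obtain ⟨-, k, -, -, hk, -⟩ := h.exists_flag hx
  exact ⟨k, hk⟩

theorem col_z (h : Fr T V z) : Col V z z :=
  ⟨1, by rw [cj_one]; exact h.ln.z_mem, by rw [cj_one]; exact h.ln.z_mem, h.ln.z_ne, h.ln.z_ne⟩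

theorem col_conj_z (h : Fr T V z) (g : G) : Col V (g * z * g⁻¹) (g * z * g⁻¹) := h.col_z.conj g

/-- two points are conjugate -/
theorem exists_conj (h : Fr T V z) {x y : G} (hx : Col V x x) (hy : Col V y y) : ∃ g, g * x * g⁻¹ = y := by
  obtain ⟨a, ha⟩ := h.isPt hx
  obtain ⟨b, hb⟩ := h.isPt hy
  refine ⟨b * a⁻¹, ?_⟩
  calc b * a⁻¹ * x * (b * a⁻¹)⁻¹ = b * (a⁻¹ * x * a) * b⁻¹ := by group
    _ = b * (a⁻¹ * (a * z * a⁻¹) * a) * b⁻¹ := by rw [ha]
    _ = b * z * b⁻¹ := by group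
    _ = y := hb

section basic

variable {x y : G}

theorem pt_sq (h : Fr T V z) (hx : Col V x x) : x * x = 1 := by
  obtain ⟨_, _, -, -, -, hf⟩ := h.exists_flag hx
  exact hf.ln.zz

theorem col_comm (h : Fr T V z) (hx : Col V x y) : x * y = y * x := by
  obtain ⟨g, h1, h2, h3, h4⟩ := hx
  obtain ⟨k, hk⟩ := h.flag h1 h3
  exact hk.2.2.ln.comm h1 h2

theorem line_le_ws (_ : Fr T V z) {g : G} (hx : x ∈ cj g V) : cj g V ≤ ws V x := le_ws ⟨⟨g, rfl⟩, hx⟩

theorem mem_ws_of_col (h : Fr T V z) (hx : Col V x y) : y ∈ ws V x := by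
  obtain ⟨g, h1, h2, -, -⟩ := hx
  exact h.line_le_ws h1 h2

theorem mem_ws_self (h : Fr T V z) (hx : Col V x x) : x ∈ ws V x := h.mem_ws_of_col hx

theorem ws_comm (h : Fr T V z) (hx : Col V x x) : ∀ a ∈ ws V x, ∀ b ∈ ws V x, a * b = b * a := by
  obtain ⟨g, _, -, -, -, hf⟩ := h.exists_flag hx
  have := hf.ab
  rwa [ws_cj] at this

theorem ws_sq (h : Fr T V z) (hx : Col V x x) : ∀ a ∈ ws V x, a * a = 1 := by
  obtain ⟨g, _, -, -, -, hf⟩ := h.exists_flag hx
  have := hf.sqz
  rwa [ws_cj] at this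

theorem ws_le_o2 [Finite G] (h : Fr T V z) (hx : Col V x x) : ws V x ≤ o2 (centralizer ({x} : Set G)) := by
  obtain ⟨g, _, -, -, -, hf⟩ := h.exists_flag hx
  have := hf.ln.ws_le_o2
  rwa [ws_cj] at this

theorem ws_le_cent [Finite G] (h : Fr T V z) (hx : Col V x x) : ws V x ≤ centralizer ({x} : Set G) :=
  (h.ws_le_o2 hx).trans (o2_le _)

theorem isPGroup_ws (h : Fr T V z) (hx : Col V x x) : IsPGroup 2 (ws V x) := by
  intro a
  refine ⟨1, ?_⟩
  ext
  simpa [pow_two] using h.ws_sq hx a a.2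

end basic

/-- (T1): at distance `< n` the group `W_x` lies in `O₂(C_G(y))` -/
theorem ws_le_o2_of_pth [Finite G] (h : Fr T V z) {n : ℕ} (hm : Mn V n) :
    ∀ k < n, ∀ x y, Pth V k x y → ws V x ≤ o2 (centralizer ({y} : Set G)) := by
  intro k
  induction k with
  | zero =>
    intro _ x y hxy
    cases hxy with
    | zero hx => exact h.ws_le_o2 hx
  | succ k ih =>
    intro hk x y hxy
    have hxy0 := hxy
    cases hxy with
    | @step _ _ y' _ hp c =>
      have h1 := ih (by omega) x y' hp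
      obtain ⟨g, hy', hy, hy'1, hy1⟩ := id c
      -- `W_x ≤ C(L)`
      have h2 : ws V x ≤ centralizer ((cj g V : Subgroup G) : Set G) := by
        intro a ha
        rw [mem_centralizer_iff]
        intro b hb
        exact (hm k (by omega) x y' hp a ha b (h.line_le_ws hy' hb)).symm
      have h3 : centralizer ((cj g V : Subgroup G) : Set G) ≤ centralizer ({y'} : Set G) := by
        intro c hc
        rw [mem_centralizer_singleton_iff]
        exact (mem_centralizer_iff.mp hc y' hy').symm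
      have h4 : ws V x ≤ o2 (centralizer ((cj g V : Subgroup G) : Set G)) := by
        refine le_trans (le_inf h1 h2) (le_o2 inf_le_right ((isPGroup_o2 _).to_le inf_le_left) ?_)
        refine le_normalizer_of_forall fun c hc a ha => ?_
        exact ⟨conj_mem_of_normalizer (le_normalizer_o2 _) (h3 hc) ha.1, conj_mem_cent hc ha.2⟩
      have h5 : centralizer (ws V y : Set G) ≤ centralizer ((cj g V : Subgroup G) : Set G) :=
        centralizer_le (h.line_le_ws hy)
      have h6 : ws V x ≤ centralizer (ws V y : Set G) := by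
        intro a ha
        rw [mem_centralizer_iff]
        intro b hb
        exact (hm (k + 1) hk x y hxy0 a ha b hb).symm
      have h7 : ws V x ≤ o2 (centralizer (ws V y : Set G)) := by
        refine le_trans (le_inf h4 h6) (le_o2 inf_le_right ((isPGroup_o2 _).to_le inf_le_left) ?_)
        refine le_normalizer_of_forall fun c hc a ha => ?_
        exact ⟨conj_mem_of_normalizer (le_normalizer_o2 _) (h5 hc) ha.1, conj_mem_cent hc ha.2⟩
      refine h7.trans ?_
      have h8 : centralizer (ws V y : Set G) ≤ centralizer ({y} : Set G) := by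
        intro c' hc'
        rw [mem_centralizer_singleton_iff]
        exact (mem_centralizer_iff.mp hc' y (h.mem_ws_self c.right)).symm
      refine le_o2 ((o2_le _).trans h8) (isPGroup_o2 _) ?_
      exact ((centralizer_le_normalizer_ws V y).trans (normalizer_le_normalizer_centralizer _)).trans
        (normalizer_le_normalizer_o2 _)

/-- `I_l`: the intersection of two of the `W_y`, `y` on the line `cj g V`, is the intersection of all -/
theorem mem_ii_cj (h : Fr T V z) {g p q u : G} (hp : p ∈ cj g V) (hp1 : p ≠ 1) (hq : q ∈ cj g V) (hq1 : q ≠ 1)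
    (hqp : q ≠ p) (h1 : u ∈ ws V p) (h2 : u ∈ ws V q) : u ∈ ii (cj g V) := by
  obtain ⟨k, -, -, hf⟩ := h.flag hp hp1
  refine hf.mem_ii hp hp1 hq hq1 hqp ?_ ?_
  · rwa [ws_cj]
  · rwa [ws_cj]

theorem ii_cj_le (_ : Fr T V z) {g p : G} (hp : p ∈ cj g V) (hp1 : p ≠ 1) : ii (cj g V) ≤ ws V p := by
  have := ii_le hp hp1
  rwa [ws_cj] at this

/-- (F2) for the line `cj g V` -/
theorem ftwo_cj [Finite G] (h : Fr T V z) {g u : G} (hu : u ∈ ii (cj g V)) (huV : u ∉ cj g V) {p q : G}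
    (hp : p ∈ cj g V) (hp1 : p ≠ 1) (hq : q ∈ cj g V) (hq1 : q ≠ 1) :
    ∃ c ∈ normalizer ((cj g V : Subgroup G) : Set G), c * u = u * c ∧ c * p * c⁻¹ = q := by
  obtain ⟨k, -, -, hf⟩ := h.flag hp hp1
  exact hf.ftwo hu huV hp hp1 hq hq1

/-- (FU) for the line `cj g V` -/
theorem fu_cj [Finite G] (h : Fr T V z) {g u : G} (hu : u ∈ ii (cj g V)) (huV : u ∉ cj g V) {p : G}
    (hp : p ∈ cj g V) (hp1 : p ≠ 1) :
    ∃ k ∈ kq V p, k ∈ centralizer ((cj g V : Subgroup G) : Set G) ∧ k * u * k⁻¹ = p * u := by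
  obtain ⟨k, -, -, hf⟩ := h.flag hp hp1
  have := hf.fu hu huV hp hp1
  rwa [kq_cj] at this

/-- (F1) for the line `cj g V` -/
theorem mover_cj (h : Fr T V z) {g p : G} (hp : p ∈ cj g V) (hp1 : p ≠ 1) :
    ∃ k ∈ kq V p, k ∉ centralizer ((cj g V : Subgroup G) : Set G) ∧
      ∀ q ∈ cj g V, q ≠ 1 → q ≠ p → k * q * k⁻¹ = p * q := by
  obtain ⟨k, -, -, hf⟩ := h.flag hp hp1
  obtain ⟨m, hm, hm1⟩ := hf.exists_mover hp hp1
  rw [kq_cj] at hm
  refine ⟨m, hm, hm1, fun q hq hq1 hqp => ?_⟩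
  refine hf.move hp hp1 hq hq1 hqp ?_ hm1
  rwa [kq_cj]

theorem kq_cases' (h : Fr T V z) {p k w : G} (hp : Col V p p) (hk : k ∈ kq V p) (hw : w ∈ ws V p) :
    k * w * k⁻¹ = w ∨ k * w * k⁻¹ = p * w := by
  obtain ⟨g, k', hpg, -, -, hf⟩ := h.exists_flag hp
  refine hf.kq_cases hf.ln.z_mem ?_ ?_
  · rwa [kq_cj]
  · rwa [ws_cj]

end Fr

/-! ### critical pairs -/

namespace Cr

variable {T V : Subgroup G} {z : G} {n : ℕ} {x y : G}

/-- the last line of the path of a critical pair -/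
theorem last [Finite G] (h : Fr T V z) (hc : Cr V (n + 1) x y) :
    ∃ y' g, Pth V n x y' ∧ y' ∈ cj g V ∧ y ∈ cj g V ∧ y' ≠ 1 ∧ y ≠ 1 ∧ y' ≠ y ∧
      ws V x ≤ o2 (centralizer ((cj g V : Subgroup G) : Set G)) := by
  have hp := hc.path
  cases hp with
  | @step _ _ y' _ hp c =>
    obtain ⟨g, hy', hy, hy'1, hy1⟩ := id c
    have hne : y' ≠ y := by
      rintro rfl
      exact hc.ne (hc.min n (by omega) x y' hp)
    refine ⟨y', g, hp, hy', hy, hy'1, hy1, hne, ?_⟩
    have h1 := h.ws_le_o2_of_pth hc.min n (by omega) x y' hp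
    have h2 : ws V x ≤ centralizer ((cj g V : Subgroup G) : Set G) := by
      intro a ha
      rw [mem_centralizer_iff]
      intro b hb
      exact (hc.min n (by omega) x y' hp a ha b (h.line_le_ws hy' hb)).symm
    have h3 : centralizer ((cj g V : Subgroup G) : Set G) ≤ centralizer ({y'} : Set G) := by
      intro c hc
      rw [mem_centralizer_singleton_iff]
      exact (mem_centralizer_iff.mp hc y' hy').symm
    refine le_trans (le_inf h1 h2) (le_o2 inf_le_right ((isPGroup_o2 _).to_le inf_le_left) ?_)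
    refine le_normalizer_of_forall fun c hc a ha => ?_
    exact ⟨conj_mem_of_normalizer (le_normalizer_o2 _) (h3 hc) ha.1, conj_mem_cent hc ha.2⟩

/-- `W_x` centralises `y` -/
theorem cent [Finite G] (h : Fr T V z) (hc : Cr V (n + 1) x y) : ws V x ≤ centralizer ({y} : Set G) := by
  obtain ⟨y', g, -, -, hy, -, -, -, hle⟩ := hc.last h
  refine (hle.trans (o2_le _)).trans fun c hc => ?_
  rw [mem_centralizer_singleton_iff]
  exact (mem_centralizer_iff.mp hc y hy).symm

theorem norm [Finite G] (h : Fr T V z) (hc : Cr V (n + 1) x y) :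
    ws V x ≤ normalizer ((ws V y : Subgroup G) : Set G) :=
  (hc.cent h).trans (centralizer_le_normalizer_ws V y)

theorem comm_mem_right [Finite G] (h : Fr T V z) (hc : Cr V (n + 1) x y) {a b : G} (ha : a ∈ ws V x)
    (hb : b ∈ ws V y) : a * b * a⁻¹ * b⁻¹ ∈ ws V y :=
  mul_mem (conj_mem_of_normalizer (hc.norm h) ha hb) (inv_mem hb)

theorem comm_mem_left [Finite G] (h : Fr T V z) (hc : Cr V (n + 1) x y) {a b : G} (ha : a ∈ ws V x)
    (hb : b ∈ ws V y) : a * b * a⁻¹ * b⁻¹ ∈ ws V x := by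
  have e : a * b * a⁻¹ * b⁻¹ = a * (b * a⁻¹ * b⁻¹) := by group
  rw [e]
  exact mul_mem ha (conj_mem_of_normalizer (hc.symm.norm h) hb (inv_mem ha))

/-- (STAR): for the last line `L = {y', y, ..}` of a critical pair, `x ∉ W_{y'} ∩ W_y` (`n ≥ 2`) -/
theorem star [Finite G] (h : Fr T V z) (hc : Cr V (n + 2) x y) {y' g : G} (hp : Pth V (n + 1) x y')
    (hy' : y' ∈ cj g V) (hy : y ∈ cj g V) (hy'1 : y' ≠ 1) (hy1 : y ≠ 1) (h1 : x ∈ ws V y) :
    x ∉ ws V y' := by
  intro h2
  have hne : y' ≠ y := by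
    rintro rfl
    exact hc.ne (hc.min (n + 1) (by omega) x y' hp)
  have hx1 : x ≠ 1 := hc.path.left.ne_one
  have hii := h.mem_ii_cj hy' hy'1 hy hy1 hne.symm h2 h1
  have hxL : x ∉ cj g V := by
    intro hx
    have : Pth V 1 x y := Pth.of_col ⟨g, hx, hy, hx1, hy1⟩
    exact hc.ne (hc.min 1 (by omega) x y this)
  obtain ⟨c, -, hcx, hcy⟩ := h.ftwo_cj hii hxL hy' hy'1 hy hy1
  have h3 := (hc.min (n + 1) (by omega) x y' hp).conj c
  rw [hcy, conj_eq_of_comm hcx] at h3
  exact hc.ne h3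

end Cr

end Cfsg.Agent.Omega.NO3S.Pt
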