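import Cfsg.Agent.Omega.NO3S.Pt.Fix
import Cfsg.Agent.Omega.NO3S.Pt.Plug
import Cfsg.Agent.Omega.NO3S.FullTwo
import Cfsg.Agent.Omega.NO3S.Dual.Basic

/-!
# NO-3S, `|V_P| = 4`: plug of LEMMA FIX (`Pt/Fix.lean`)

* `com_line` : a critical pair at distance `≥ 2`: the points of a line commute;
* `Fr.nn_le` : `N_p = ⟨p⟩` for all points `p` (`J(T) ≰ C(V)`), `Fr.nn_le_D` : `C_{N_z}(D) ≤ ⟨z⟩` (levels);
* `fullK_of_jj` : `Hyp S P`, `|V_P| = 4`, (F1), `CritP S P n 1 y`, `n ≥ 2`, `J(S) ≰ C(V_P)`: `FullK V_P Z`.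
-/

set_option autoImplicit false
set_option maxHeartbeats 400000

namespace Cfsg.Agent.Omega.NO3S.Pt

open Subgroup Cfsg Cfsg.Agent.ZN Cfsg.Agent.MinSimple.Geo Cfsg.Agent.Omega.CaseL Cfsg.Agent.Omega.NO3S.TwoOne
open Cfsg.Agent.Omega.NO3S.Dual (nn mem_nn)

universe u

section points

variable {G : Type u} [Group G] {T V : Subgroup G} {z : G}

/-- critical distance `≥ 2`: the points of a line commute -/
theorem com_line {n : ℕ} (hn : 2 ≤ n) (hm : Mn V n) :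
    ∀ p ∈ V, p ≠ 1 → ∀ q ∈ V, q ≠ 1 → Com V p q := by
  intro p hp hp1 q hq hq1
  have h1 : Col V p p := ⟨1, by rw [cj_one]; exact hp, by rw [cj_one]; exact hp, hp1, hp1⟩
  have h2 : Col V p q := ⟨1, by rw [cj_one]; exact hp, by rw [cj_one]; exact hq, hp1, hq1⟩
  exact hm 1 (by omega) p q (by
    have := (Pth.zero h1).step h2
    simpa using this)

variable [Finite G] (h : Fr T V z)
include h

/-- `C_{N_z}(D) ≤ ⟨z⟩` -/
theorem Fr.nn_le_D (hc : ∀ p ∈ V, p ≠ 1 → ∀ q ∈ V, q ≠ 1 → Com V p q) {D : Subgroup G} (hO : OffQ T V D) :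
    nn (ws V z) (kq V z) ⊓ centralizer (D : Set G) ≤ zpowers z := by
  rintro w ⟨hw, hD⟩
  obtain ⟨h1, h2⟩ := mem_nn.1 hw
  rcases h.cen_kq hc hO h1 hD h2 with e | e
  · rw [e]; exact one_mem _
  · rw [e]; exact mem_zpowers z

/-- `N_z = ⟨z⟩` -/
theorem Fr.nn_le_z (hc : ∀ p ∈ V, p ≠ 1 → ∀ q ∈ V, q ≠ 1 → Com V p q) (hj : ¬ jj T ≤ centralizer (V : Set G)) :
    nn (ws V z) (kq V z) ≤ zpowers z := by
  refine le_trans (le_inf le_rfl ?_) (h.nn_le_D hc (h.offQ_of_jj hj))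
  intro x _
  rw [mem_centralizer_iff]
  intro y hy
  rw [mem_bot.1 hy, one_mul, mul_one]

/-- `N_p = ⟨p⟩` for all points `p` -/
theorem Fr.nn_le (hc : ∀ p ∈ V, p ≠ 1 → ∀ q ∈ V, q ≠ 1 → Com V p q) (hj : ¬ jj T ≤ centralizer (V : Set G)) {p : G}
    (hp : Col V p p) : nn (ws V p) (kq V p) ≤ zpowers p := by
  obtain ⟨k, rfl⟩ := h.isPt hp
  intro w hw
  obtain ⟨h1, h2⟩ := mem_nn.1 hw
  rw [← cj_ws, mem_cj] at h1
  have h3 : k⁻¹ * w * k ∈ nn (ws V z) (kq V z) := by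
    refine mem_nn.2 ⟨h1, fun c hc' => ?_⟩
    have h4 : k * c * k⁻¹ ∈ kq V (k * z * k⁻¹) := by
      rw [← cj_kq]
      exact conj_mem_cj hc'
    have h5 := h2 _ h4
    calc c * (k⁻¹ * w * k) = k⁻¹ * ((k * c * k⁻¹) * w) * k := by group
      _ = k⁻¹ * (w * (k * c * k⁻¹)) * k := by rw [h5]
      _ = k⁻¹ * w * k * c := by group
  have h4 := (mem_zpowers_iff_of_mul_self h.ln.zz).1 (h.nn_le_z hc hj h3)
  have e : w = k * (k⁻¹ * w * k) * k⁻¹ := by group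
  rcases h4 with h5 | h5
  · rw [e, h5]
    have : k * 1 * k⁻¹ = 1 := by group
    rw [this]
    exact one_mem _
  · rw [e, h5]
    exact mem_zpowers _

end points

section leaf

open Cfsg.Agent.Omega.MinPar Cfsg.Agent.Omega.Frame Cfsg.Agent.Omega.FrameNOFF
open Cfsg.Agent.Omega.NoFF.Lines

variable {G : Type u} [Group G] [Finite G] {S : Sylow 2 G} {P : Subgroup G}

/-- **LEMMA FIX in the leaf**, `q = 2`, `J(S) ≰ C(V_P)`: `FullK`. -/
theorem fullK_of_jj (h : Hyp S P) (hc : Nat.card (zl (S : Subgroup G) P) = 4) {z : G}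
    (hz : z ∈ zc (S : Subgroup G)) (hz1 : z ≠ 1)
    (f1 : ∃ k ∈ kq (zl (S : Subgroup G) P) z, k ∉ centralizer (zl (S : Subgroup G) P : Set G)) {n : ℕ} {y : G}
    (hn : 2 ≤ n) (hy : CritP (S : Subgroup G) P n 1 y)
    (hj : ¬ jj (S : Subgroup G) ≤ centralizer (zl (S : Subgroup G) P : Set G)) :
    FullK (zl (S : Subgroup G) P) (zc (S : Subgroup G)) := by
  have hf := fr_four h hc hz hz1 f1
  have hcr := cr_of_crit h hc hz hz1 hf hy
  refine (FullTwo.fullK_iff h hc hz hz1).2 fun w hw hk => ?_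
  exact hf.nn_le_z (com_line hn hcr.min) hj (mem_nn.2 ⟨hw, hk⟩)

end leaf

end Cfsg.Agent.Omega.NO3S.Pt
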