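import Cfsg.Agent.Omega.NO3S.Pt.FixPlug
import Cfsg.Agent.Omega.NO3S.TwoOne.Main
import Cfsg.Agent.Omega.Node.NO3SLevel

/-!
# NO-3S, `|V_P| = 4`, `n ≥ 2`: the input `FullTwo` of the leaf from (F1) and its case `J(S) ≤ O₂(P)`

* `FullTwoJ K` : `FullTwo K` with (F1) (as a frame `Fr`) and `J(S) ≤ C(V_P)`;
* `fullTwo_of : TwoOne.FOneP K → FullTwoJ K → FullTwo K` (LEMMA FIX: `fullK_of_jj`).
-/

set_option autoImplicit false
set_option maxHeartbeats 400000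

namespace Cfsg.Agent.Omega.NO3S.Pt

open Subgroup Cfsg Cfsg.Agent.ZN Cfsg.Agent.MinSimple.Geo Cfsg.Agent.Omega.NO3S.TwoOne
open Cfsg.Agent.Omega.MinPar Cfsg.Agent.Omega.Frame Cfsg.Agent.Omega.FrameNOFF
open Cfsg.Agent.Omega.NoFF.Lines

universe u

variable (K : Cls.{u})

/-- What is left of `FullTwo`: `J(S) ≤ C(V_P)`. Paper: helper56 #21024. -/
def FullTwoJ : Prop :=
  ∀ (G : Type u) [Group G] [Finite G], K G → ∀ (S : Sylow 2 G) (P : Subgroup G), Hyp S P →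
    Nat.card (zl (S : Subgroup G) P) = 4 → ∀ z ∈ zc (S : Subgroup G), z ≠ 1 →
      Fr (S : Subgroup G) (zl (S : Subgroup G) P) z →
      jj (S : Subgroup G) ≤ centralizer (zl (S : Subgroup G) P : Set G) →
      ∀ (n : ℕ) (y : G), 2 ≤ n → CritP (S : Subgroup G) P n 1 y →
        FullK (zl (S : Subgroup G) P) (zc (S : Subgroup G)) ∨ IsKnownSimple' G

variable {K}

/-- **LEMMA FIX in the leaf**, `q = 2`. -/
theorem fullTwo_of (h0 : FOneP K) (h1 : FullTwoJ K) : FullTwo K := by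
  intro G _ _ hK S P h hc n y hn hy
  obtain ⟨z, hz1⟩ := Subgroup.ne_bot_iff_exists_ne_one.1 h.zc_ne
  have hz1' : (z : G) ≠ 1 := fun e => hz1 (Subtype.ext e)
  rcases h0 G hK S P h hc z z.2 hz1' with f1 | h2
  · by_cases hj : jj (S : Subgroup G) ≤ centralizer (zl (S : Subgroup G) P : Set G)
    · exact h1 G hK S P h hc z z.2 hz1' (fr_four h hc z.2 hz1' f1) hj n y hn hy
    · exact Or.inl (fullK_of_jj h hc z.2 hz1' f1 hn hy hj)
  · exact Or.inr h2

end Cfsg.Agent.Omega.NO3S.Pt
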