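import Cfsg.Agent.Omega.NO3S.Pt.Path
import Cfsg.Agent.Omega.NO3S.Dual.Plug

/-!
# NO-3S, `|V| = 4`: LEMMA D (helper502 #15661), K-free, all `n ≥ 1`

* `Fr.dw` : `DW p (W_p) (K_p)` for every point `p` (duality, `Dual/Basic.lean`);
* `Fr.lemD` : `x`, `x'` collinear with `p`, `≠ p`, `G* = ⟨C(W_x), C(W_x')⟩`: either `W_x ∩ W_x' ≤ W_p`, or the
  `G*`-conjugates of `x` and of `x'` lie in `⟨x, x'⟩ N_p`, `N_p = C_{W_p}(K_p)`;
* `Fr.inf_mul_le` : `W_x ∩ W_{px} ≤ W_p`.
-/

set_option autoImplicit false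
set_option linter.unusedSectionVars false

namespace Cfsg.Agent.Omega.NO3S.Pt

open Subgroup Cfsg Cfsg.Agent.ZN Cfsg.Agent.MinSimple.Geo Cfsg.Agent.Omega.CaseL Cfsg.Agent.Omega.NO3S.TwoOne
open Cfsg.Agent.Omega.NO3S.Dual (nn mem_nn DW)
open Cfsg.Agent.ZN.Block (conj_mem_of_normalizer conj_mem_of_normalizer' le_normalizer_of_forall
  mem_normalizer_of)

universe u

variable {G : Type u} [Group G] {T V : Subgroup G} {z : G}

theorem Fr.dw (h : Fr T V z) {p : G} (hp : Col V p p) : DW p (ws V p) (kq V p) where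
  q_mem := h.mem_ws_self hp
  comm := h.ws_comm hp
  sq := h.ws_sq hp
  cent := fun _ hk => mem_centralizer_singleton_iff.mp (kq_le_centralizer V p hk)
  act := fun _ hk _ hw => h.kq_cases' hp hk hw

/-- `W_x ∩ W_{px} ≤ W_p` -/
theorem Fr.inf_mul_le (h : Fr T V z) {p x : G} (hx : Col V p x) (hxp : x ≠ p) :
    ws V x ⊓ ws V (p * x) ≤ ws V p := by
  rintro u ⟨h1, h2⟩
  obtain ⟨g, hp, hx', hp1, hx1⟩ := hx
  obtain ⟨k, -, -, hf⟩ := h.flag hp hp1
  have hpx : p * x ∈ cj g V := mul_mem hp hx'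
  have hpx1 : p * x ≠ 1 := hf.mul_ne_one hx' (Ne.symm hxp)
  exact h.ii_cj_le hp hp1 (h.mem_ii_cj hx' hx1 hpx hpx1 (fun e => hp1 (by simpa using e)) h1 h2)

/-- **LEMMA D** -/
theorem Fr.lemD [Finite G] (h : Fr T V z) {p x x' : G} (hx : Col V p x) (hx' : Col V p x') (hxp : x ≠ p)
    (hxp' : x' ≠ p) :
    ws V x ⊓ ws V x' ≤ ws V p ∨
      ∀ g ∈ centralizer (ws V x : Set G) ⊔ centralizer (ws V x' : Set G),
        g * x * g⁻¹ ∈ closure {x, x'} ⊔ nn (ws V p) (kq V p) ∧
        g * x' * g⁻¹ ∈ closure {x, x'} ⊔ nn (ws V p) (kq V p) := by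
  set Gs := centralizer (ws V x : Set G) ⊔ centralizer (ws V x' : Set G) with hGs
  -- `G* ≤ C(p)`
  have hpx : p ∈ ws V x := h.mem_ws_of_col hx.symm
  have hpx' : p ∈ ws V x' := h.mem_ws_of_col hx'.symm
  have hGp : Gs ≤ centralizer ({p} : Set G) := by
    refine sup_le ?_ ?_
    · intro c hc
      rw [mem_centralizer_singleton_iff]
      exact (mem_centralizer_iff.mp hc p hpx).symm
    · intro c hc
      rw [mem_centralizer_singleton_iff]
      exact (mem_centralizer_iff.mp hc p hpx').symm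
  have hGX : Gs ≤ centralizer ((ws V x ⊓ ws V x' : Subgroup G) : Set G) :=
    sup_le (centralizer_le inf_le_left) (centralizer_le inf_le_right)
  -- an element of `X` lies in every `W_{x^g}`
  have hmem : ∀ y : G, ∀ g ∈ Gs, ∀ u ∈ ws V x ⊓ ws V x', u ∈ ws V y → u ∈ ws V (g * y * g⁻¹) := by
    intro y g hg u hu huy
    have h1 := conj_mem_ws g huy
    have h2 := mem_centralizer_iff.mp (hGX hg) u hu
    have h3 : g * u * g⁻¹ = u := by rw [← h2]; group
    rwa [h3] at h1
  -- case A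
  by_cases hA : ∃ g ∈ Gs, g * x * g⁻¹ = p * x
  · left
    obtain ⟨g, hg, e⟩ := hA
    intro u hu
    have := hmem x g hg u hu hu.1
    rw [e] at this
    exact h.inf_mul_le hx hxp ⟨hu.1, this⟩
  by_cases hA' : ∃ g ∈ Gs, g * x' * g⁻¹ = p * x'
  · left
    obtain ⟨g, hg, e⟩ := hA'
    intro u hu
    have := hmem x' g hg u hu hu.2
    rw [e] at this
    exact h.inf_mul_le hx' hxp' ⟨hu.2, this⟩
  right
  have hU : closure {x, x'} ≤ ws V p := by
    rw [closure_le]
    rintro y (rfl | rfl)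
    · exact h.mem_ws_of_col hx
    · exact h.mem_ws_of_col hx'
  have hxU : x ∈ closure ({x, x'} : Set G) := subset_closure (Or.inl rfl)
  have hxU' : x' ∈ closure ({x, x'} : Set G) := subset_closure (Or.inr rfl)
  have hgen : ∀ y ∈ closure ({x, x'} : Set G), (¬ ∃ g ∈ Gs, g * y * g⁻¹ = p * y) → ∀ g ∈ Gs,
      g * y * g⁻¹ ∈ closure {x, x'} ⊔ nn (ws V p) (kq V p) := by
    intro y hy hno g hg
    refine (h.dw hx.left).dual hU ?_ fun k hk hkU => ?_
    · exact conj_mem_of_normalizer (centralizer_le_normalizer_ws V p) (hGp hg) (hU hy)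
    · have hkx := hkU x hxU
      have hkx' := hkU x' hxU'
      have hky := hkU y hy
      have hkn : ∀ w : G, k * w = w * k → k ∈ normalizer ((centralizer (ws V w : Set G) : Subgroup G) : Set G) :=
        fun w hw => normalizer_le_normalizer_centralizer _
          (centralizer_le_normalizer_ws V w (mem_centralizer_singleton_iff.mpr hw))
      have hkG : k * g * k⁻¹ ∈ Gs := by
        have h1 : cj k Gs = Gs := by
          rw [hGs]
          change Subgroup.map _ _ = _
          rw [Subgroup.map_sup]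
          change cj k _ ⊔ cj k _ = _
          rw [cj_eq_of_mem_normalizer (hkn x hkx), cj_eq_of_mem_normalizer (hkn x' hkx')]
        rw [← h1]
        exact conj_mem_cj hg
      have hgy : g * y * g⁻¹ ∈ ws V p :=
        conj_mem_of_normalizer (centralizer_le_normalizer_ws V p) (hGp hg) (hU hy)
      rcases h.kq_cases' hx.left hk hgy with e | e
      · exact comm_of_conj_eq e
      · exfalso
        refine hno ⟨g⁻¹ * (k * g * k⁻¹), mul_mem (inv_mem hg) hkG, ?_⟩
        have h3 : k⁻¹ * y * k = y := by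
          have : k * y = y * k := hky
          rw [mul_assoc, ← this, inv_mul_cancel_left]
        have h4 : g⁻¹ * p * g = p := by
          have := mem_centralizer_singleton_iff.mp (hGp hg)
          rw [mul_assoc, ← this, inv_mul_cancel_left]
        calc g⁻¹ * (k * g * k⁻¹) * y * (g⁻¹ * (k * g * k⁻¹))⁻¹ =
            g⁻¹ * (k * (g * (k⁻¹ * y * k) * g⁻¹) * k⁻¹) * g := by group
          _ = g⁻¹ * (p * (g * y * g⁻¹)) * g := by rw [h3, e]
          _ = (g⁻¹ * p * g) * y := by group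
          _ = p * y := by rw [h4]
  exact fun g hg => ⟨hgen x hxU hA g hg, hgen x' hxU' hA' g hg⟩

end Cfsg.Agent.Omega.NO3S.Pt
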